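import Mathlib
import Cfsg.Prelude.Def_Solvable
import Cfsg.Agent.Lib.Basic.Core

/-!
# Extremely primitive groups

A finite primitive group whose point stabilizers act primitively on each of their orbits.
For a prime `p` with `O_p(G_x) ≠ 1`, the subgroup `O_p(G_x)` is elementary abelian, semiregular on the
remaining points and self-centralizing in `G_x`.
-/

set_option autoImplicit false

namespace Cfsg.Agent.Lib.Misc19.ExtPrim

open MulAction
open scoped Pointwise

variable {G : Type*} [Group G] {Ω : Type*} [MulAction G Ω]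

/-- A normal subgroup of a point stabilizer moving `y` is transitive on the orbit of `y`. -/
theorem trans_of_normal {x y : Ω}
    (hep : IsPreprimitive (stabilizer G x) (orbit (stabilizer G x) y))
    (N : Subgroup G) (hN : N ≤ stabilizer G x)
    (hn : ∀ s ∈ stabilizer G x, ∀ n ∈ N, s * n * s⁻¹ ∈ N)
    (hmove : ∃ n ∈ N, n • y ≠ y) : ∀ s ∈ stabilizer G x, ∃ n ∈ N, n • y = s • y := by
  let N' : Subgroup (stabilizer G x) := N.subgroupOf (stabilizer G x)
  haveI : N'.Normal := ⟨fun n hn' g => by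
    rw [Subgroup.mem_subgroupOf] at hn' ⊢
    exact hn g g.2 n hn'⟩
  have hfix : fixedPoints N' (orbit (stabilizer G x) y) ≠ Set.univ := by
    intro h
    obtain ⟨n, hnN, hny⟩ := hmove
    have h1 : (⟨y, mem_orbit_self y⟩ : orbit (stabilizer G x) y) ∈ fixedPoints N' (orbit (stabilizer G x) y) := by
      rw [h]; trivial
    have h2 := h1 ⟨⟨n, hN hnN⟩, by rw [Subgroup.mem_subgroupOf]; exact hnN⟩
    exact hny (congrArg Subtype.val h2)
  haveI := IsQuasiPreprimitive.isPretransitive_of_normal (G := stabilizer G x)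
    (X := orbit (stabilizer G x) y) (N := N') hfix
  intro s hs
  obtain ⟨n', hn'⟩ := exists_smul_eq N' (⟨y, mem_orbit_self y⟩ : orbit (stabilizer G x) y)
    (⟨s • y, ⟨⟨s, hs⟩, rfl⟩⟩)
  exact ⟨n'.1.1, Subgroup.mem_subgroupOf.1 n'.2, congrArg Subtype.val hn'⟩

/-- The elementary abelian image on an orbit. -/
theorem image_elem {p : ℕ} [Fact p.Prime] [Finite G] [Finite Ω] {x y : Ω}
    (hep : IsPreprimitive (stabilizer G x) (orbit (stabilizer G x) y))
    (N : Subgroup G) (hN : N ≤ stabilizer G x)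
    (hn : ∀ s ∈ stabilizer G x, ∀ n ∈ N, s * n * s⁻¹ ∈ N) (hP : IsPGroup p N) :
    (∀ n₁ ∈ N, ∀ n₂ ∈ N, (n₁ * n₂ * n₁⁻¹ * n₂⁻¹) • y = y) ∧ ∀ n ∈ N, (n ^ p) • y = y := by
  classical
  let X := stabilizer G x
  let Y := orbit X y
  let y0 : Y := ⟨y, mem_orbit_self y⟩
  let ϕ : X →* Equiv.Perm Y := MulAction.toPermHom X Y
  let N' : Subgroup X := N.subgroupOf X
  let NB : Subgroup (Equiv.Perm Y) := N'.map ϕ
  have hN'n : ∀ s : X, ∀ n ∈ N', s * n * s⁻¹ ∈ N' := by
    intro s n h
    rw [Subgroup.mem_subgroupOf] at h ⊢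
    exact hn s s.2 n h
  have hNB : ∀ s : X, ∀ c ∈ NB, ϕ s * c * (ϕ s)⁻¹ ∈ NB := by
    rintro s c ⟨n, hn1, rfl⟩
    exact ⟨s * n * s⁻¹, hN'n s n hn1, by simp only [map_mul, map_inv]⟩
  -- reduction to a statement in the permutation group
  suffices h : (∀ c ∈ NB, ∀ d ∈ NB, c * d = d * c) ∧ ∀ c ∈ NB, c ^ p = 1 by
    obtain ⟨h1, h2⟩ := h
    have key : ∀ n : G, (hn0 : n ∈ N) → ϕ ⟨n, hN hn0⟩ ∈ NB := by
      intro n hn0
      exact ⟨⟨n, hN hn0⟩, Subgroup.mem_subgroupOf.2 hn0, rfl⟩
    constructor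
    · intro n₁ hn₁ n₂ hn₂
      have e := h1 _ (key n₁ hn₁) _ (key n₂ hn₂)
      have e2 : ϕ (⟨n₁, hN hn₁⟩ * ⟨n₂, hN hn₂⟩ * (⟨n₁, hN hn₁⟩ : X)⁻¹ * (⟨n₂, hN hn₂⟩ : X)⁻¹) = 1 := by
        simp only [map_mul, map_inv]
        rw [e]
        group
      have e3 := congrArg (fun f : Equiv.Perm Y => ((f y0 : Y) : Ω)) e2
      exact e3
    · intro n hn0
      have e := h2 _ (key n hn0)
      have e2 : ϕ ((⟨n, hN hn0⟩ : X) ^ p) = 1 := by
        rw [map_pow]; exact e
      have e3 := congrArg (fun f : Equiv.Perm Y => ((f y0 : Y) : Ω)) e2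
      exact e3
  -- the trivial case
  by_cases hNB1 : NB = ⊥
  · constructor
    · intro c hc d hd
      rw [hNB1, Subgroup.mem_bot] at hc hd
      rw [hc, hd]
    · intro c hc
      rw [hNB1, Subgroup.mem_bot] at hc
      rw [hc, one_pow]
  -- transitivity of normal subgroups of the image
  have htrans : ∀ T : Subgroup (Equiv.Perm Y), T ≤ NB → T ≠ ⊥ →
      (∀ s : X, ∀ t ∈ T, ϕ s * t * (ϕ s)⁻¹ ∈ T) → ∀ y1 : Y, ∃ t ∈ T, t y0 = y1 := by
    intro T hTN hT1 hTn y1
    let T' : Subgroup X := T.comap ϕ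
    haveI : T'.Normal := ⟨fun n hn' g => by
      show ϕ (g * n * g⁻¹) ∈ T
      rw [map_mul, map_mul, map_inv]
      exact hTn g _ hn'⟩
    have hfix : fixedPoints T' Y ≠ Set.univ := by
      intro h
      obtain ⟨t, htT, ht1⟩ := (Subgroup.ne_bot_iff_exists_ne_one (H := T)).1 hT1 |>.imp (fun t h => h) |> fun ⟨t, h⟩ => (⟨t.1, t.2, fun h1 => h (Subtype.ext h1)⟩ : ∃ t, t ∈ T ∧ t ≠ 1)
      obtain ⟨n, -, hn2⟩ := hTN htT
      apply ht1
      ext y2
      have h3 : y2 ∈ fixedPoints T' Y := by rw [h]; trivial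
      have h4 := h3 ⟨n, by show ϕ n ∈ T; rw [hn2]; exact htT⟩
      rw [← hn2]
      exact congrArg Subtype.val h4
    haveI := IsQuasiPreprimitive.isPretransitive_of_normal (G := X) (X := Y) (N := T') hfix
    obtain ⟨t, ht⟩ := exists_smul_eq T' y0 y1
    exact ⟨ϕ t.1, t.2, ht⟩
  -- the core argument
  have hcore : ∀ T : Subgroup (Equiv.Perm Y), T ≤ NB → T ≠ ⊥ →
      (∀ s : X, ∀ t ∈ T, ϕ s * t * (ϕ s)⁻¹ ∈ T) → (∀ t ∈ T, ∀ t' ∈ T, t * t' = t' * t) →
      (∀ c ∈ NB, ∀ t ∈ T, c * t = t * c) → NB ≤ T := by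
    intro T hTN hT1 hTn hTc hNc c hc
    obtain ⟨t, ht, hty⟩ := htrans T hTN hT1 hTn (c y0)
    have hd : t⁻¹ * c = 1 := by
      ext y1
      obtain ⟨t', ht', hty'⟩ := htrans T hTN hT1 hTn y1
      have e1 : (t⁻¹ * c) * t' = t' * (t⁻¹ * c) := by
        have h1 : t⁻¹ * t' = t' * t⁻¹ := by
          have := hTc t ht t' ht'
          calc t⁻¹ * t' = t⁻¹ * (t' * t) * t⁻¹ := by group
            _ = t⁻¹ * (t * t') * t⁻¹ := by rw [this]
            _ = t' * t⁻¹ := by group
        calc (t⁻¹ * c) * t' = t⁻¹ * (c * t') := by group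
          _ = t⁻¹ * (t' * c) := by rw [hNc c hc t' ht']
          _ = (t⁻¹ * t') * c := by group
          _ = (t' * t⁻¹) * c := by rw [h1]
          _ = t' * (t⁻¹ * c) := by group
      have e2 : (t⁻¹ * c) y0 = y0 := by
        rw [Equiv.Perm.mul_apply, ← hty]; simp
      have e3 : (t⁻¹ * c) y1 = y1 := by
        rw [← hty']
        have := congrArg (fun f : Equiv.Perm Y => f y0) e1
        simp only [Equiv.Perm.mul_apply] at this e2 ⊢
        rw [this, e2]
      exact congrArg Subtype.val e3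
    have : c = t := by
      have := congrArg (fun f => t * f) hd
      simpa using this
    rw [this]
    exact ht
  have hNBp : IsPGroup p NB := by
    have h1 : IsPGroup p N' := by
      intro g
      obtain ⟨k, hk⟩ := hP ⟨g.1.1, Subgroup.mem_subgroupOf.1 g.2⟩
      refine ⟨k, Subtype.ext (Subtype.ext ?_)⟩
      have := congrArg Subtype.val hk
      simpa using this
    exact h1.map ϕ
  haveI : Nontrivial NB := (Subgroup.nontrivial_iff_ne_bot NB).2 hNB1
  -- step 1: NB is abelian
  have hcomm : ∀ c ∈ NB, ∀ d ∈ NB, c * d = d * c := by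
    let T : Subgroup (Equiv.Perm Y) := NB ⊓ Subgroup.centralizer (NB : Set (Equiv.Perm Y))
    have hT1 : T ≠ ⊥ := by
      haveI := hNBp.center_nontrivial
      obtain ⟨z, hz⟩ := exists_ne (1 : Subgroup.center NB)
      intro h
      have hzT : ((z : NB) : Equiv.Perm Y) ∈ T := by
        refine ⟨(z : NB).2, Subgroup.mem_centralizer_iff.2 ?_⟩
        intro c hc
        have := (Subgroup.mem_center_iff.1 z.2) ⟨c, hc⟩
        exact congrArg Subtype.val this
      rw [h, Subgroup.mem_bot] at hzT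
      exact hz (Subtype.ext (Subtype.ext hzT))
    have hTn : ∀ s : X, ∀ t ∈ T, ϕ s * t * (ϕ s)⁻¹ ∈ T := by
      intro s t ht
      refine ⟨hNB s t ht.1, Subgroup.mem_centralizer_iff.2 ?_⟩
      intro c hc
      have hc' : (ϕ s)⁻¹ * c * ϕ s ∈ NB := by
        have := hNB s⁻¹ c hc
        simpa using this
      have h1 := (Subgroup.mem_centralizer_iff.1 ht.2) _ hc'
      calc c * (ϕ s * t * (ϕ s)⁻¹) = ϕ s * (((ϕ s)⁻¹ * c * ϕ s) * t) * (ϕ s)⁻¹ := by group
        _ = ϕ s * (t * ((ϕ s)⁻¹ * c * ϕ s)) * (ϕ s)⁻¹ := by rw [h1]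
        _ = ϕ s * t * (ϕ s)⁻¹ * c := by group
    have hle := hcore T inf_le_left hT1 hTn
      (fun t ht t' ht' => (Subgroup.mem_centralizer_iff.1 ht'.2) t ht.1)
      (fun c hc t ht => (Subgroup.mem_centralizer_iff.1 ht.2) c hc)
    intro c hc d hd
    exact (Subgroup.mem_centralizer_iff.1 (hle hd).2) c hc
  -- step 2: NB has exponent p
  refine ⟨hcomm, ?_⟩
  let T : Subgroup (Equiv.Perm Y) :=
    { carrier := {c | c ∈ NB ∧ c ^ p = 1}
      one_mem' := ⟨NB.one_mem, one_pow p⟩
      mul_mem' := by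
        rintro a b ⟨ha, ha'⟩ ⟨hb, hb'⟩
        refine ⟨NB.mul_mem ha hb, ?_⟩
        have : Commute a b := hcomm a ha b hb
        rw [this.mul_pow, ha', hb', one_mul]
      inv_mem' := by
        rintro a ⟨ha, ha'⟩
        exact ⟨NB.inv_mem ha, by rw [inv_pow, ha', inv_one]⟩ }
  have hT1 : T ≠ ⊥ := by
    obtain ⟨k, hk⟩ := IsPGroup.iff_card.1 hNBp
    have hk0 : k ≠ 0 := by
      rintro rfl
      rw [pow_zero] at hk
      exact hNB1 (Subgroup.eq_bot_of_card_eq _ hk)
    have hd : p ∣ Nat.card NB := by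
      rw [hk]
      exact dvd_pow_self p hk0
    obtain ⟨z, hz⟩ := exists_prime_orderOf_dvd_card' p hd
    intro h
    have hzT : (z : Equiv.Perm Y) ∈ T := by
      refine ⟨z.2, ?_⟩
      have := pow_orderOf_eq_one z
      rw [hz] at this
      exact congrArg Subtype.val this
    rw [h, Subgroup.mem_bot] at hzT
    have hz1 : z = 1 := Subtype.ext hzT
    rw [hz1, orderOf_one] at hz
    exact (Fact.out : p.Prime).one_lt.ne hz
  have hTn : ∀ s : X, ∀ t ∈ T, ϕ s * t * (ϕ s)⁻¹ ∈ T := by
    rintro s t ⟨ht, ht'⟩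
    refine ⟨hNB s t ht, ?_⟩
    rw [conj_pow, ht']
    simp
  have hle := hcore T (fun t ht => ht.1) hT1 hTn
    (fun t ht t' ht' => hcomm t ht.1 t' ht'.1)
    (fun c hc t ht => hcomm c hc t ht.1)
  intro c hc
  exact (hle hc).2

/-- The standing hypotheses. -/
structure EP (G : Type*) [Group G] (Ω : Type*) [MulAction G Ω] : Prop where
  prim : IsPreprimitive G Ω
  faith : FaithfulSMul G Ω
  hep : ∀ x y : Ω, IsPreprimitive (stabilizer G x) (orbit (stabilizer G x) y)
  ne : ∀ x : Ω, stabilizer G x ≠ ⊥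

namespace EP

variable (E : EP G Ω)
include E

theorem eq_one (g : G) (h : ∀ z : Ω, g • z = z) : g = 1 := by
  haveI := E.faith
  apply FaithfulSMul.eq_of_smul_eq_smul (α := Ω)
  intro z
  rw [h z, one_smul]

theorem gen {x y : Ω} (hxy : x ≠ y) (Q : Subgroup G) (h1 : stabilizer G x ≤ Q)
    (h2 : stabilizer G y ≤ Q) : Q = ⊤ := by
  haveI := E.prim
  haveI : Nontrivial Ω := ⟨⟨x, y, hxy⟩⟩
  have cx := IsPreprimitive.isCoatom_stabilizer_of_isPreprimitive (G := G) x
  have cy := IsPreprimitive.isCoatom_stabilizer_of_isPreprimitive (G := G) y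
  by_cases hQ : Q = stabilizer G x
  · exfalso
    rw [hQ] at h2
    have hyx : stabilizer G y = stabilizer G x := by
      by_contra hne
      exact cx.1 (cy.2 _ (lt_of_le_of_ne h2 hne))
    let B : Set Ω := {z | stabilizer G z = stabilizer G x}
    have hB : ∀ g : G, g • B = {z | stabilizer G z = (stabilizer G x).map (MulAut.conj g).toMonoidHom} := by
      intro g
      ext z
      rw [Set.mem_smul_set_iff_inv_smul_mem]
      show stabilizer G (g⁻¹ • z) = stabilizer G x ↔ stabilizer G z = _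
      constructor
      · intro h
        rw [← h, ← stabilizer_smul_eq_stabilizer_map_conj, smul_inv_smul]
      · intro h
        rw [stabilizer_smul_eq_stabilizer_map_conj, h]
        ext a
        simp only [Subgroup.mem_map, MulEquiv.toMonoidHom_eq_coe, MonoidHom.coe_coe, MulAut.conj_apply, exists_exists_and_eq_and]
        constructor
        · rintro ⟨b, hb, rfl⟩
          have : g⁻¹ * (g * b * g⁻¹) * g⁻¹⁻¹ = b := by group
          rw [this]
          exact hb
        · intro ha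
          exact ⟨a, ha, by group⟩
    have hBB : IsBlock G B := by
      rw [isBlock_iff_smul_eq_smul_of_nonempty]
      rintro g₁ g₂ ⟨u, hu1, hu2⟩
      rw [hB] at hu1 hu2 ⊢
      rw [hB]
      have : (stabilizer G x).map (MulAut.conj g₁).toMonoidHom = (stabilizer G x).map (MulAut.conj g₂).toMonoidHom :=
        (show stabilizer G u = _ from hu1).symm.trans hu2
      rw [this]
    rcases hBB.subsingleton_or_eq_univ with h | h
    · exact hxy (h (show stabilizer G x = stabilizer G x from rfl) (show stabilizer G y = stabilizer G x from hyx))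
    · apply E.ne x
      rw [eq_bot_iff]
      intro s hs
      rw [Subgroup.mem_bot]
      apply E.eq_one s
      intro z
      have hz : z ∈ B := by rw [h]; trivial
      have hz' : stabilizer G z = stabilizer G x := hz
      have : s ∈ stabilizer G z := by rw [hz']; exact hs
      exact this
  · exact cx.2 _ (lt_of_le_of_ne h1 (Ne.symm hQ))

theorem set_inv {x y : Ω} (hxy : x ≠ y) (S : Set Ω) (hx : ∀ s ∈ stabilizer G x, ∀ z ∈ S, s • z ∈ S)
    (hy : ∀ s ∈ stabilizer G y, ∀ z ∈ S, s • z ∈ S) (g : G) : ∀ z ∈ S, g • z ∈ S := by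
  have hQ : stabilizer G S = ⊤ := by
    apply E.gen hxy
    · intro s hs
      rw [mem_stabilizer_iff]
      ext z
      rw [Set.mem_smul_set_iff_inv_smul_mem]
      constructor
      · intro h
        have := hx s hs _ h
        simpa using this
      · intro h
        exact hx s⁻¹ ((stabilizer G x).inv_mem hs) z h
    · intro s hs
      rw [mem_stabilizer_iff]
      ext z
      rw [Set.mem_smul_set_iff_inv_smul_mem]
      constructor
      · intro h
        have := hy s hs _ h
        simpa using this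
      · intro h
        exact hy s⁻¹ ((stabilizer G y).inv_mem hs) z h
  have hg : g ∈ stabilizer G S := by rw [hQ]; trivial
  intro z hz
  rw [mem_stabilizer_iff] at hg
  rw [← hg]
  exact Set.smul_mem_smul_set hz

theorem normal_of {x y : Ω} (hxy : x ≠ y) (N : Subgroup G) (hx : ∀ s ∈ stabilizer G x, ∀ n ∈ N, s * n * s⁻¹ ∈ N)
    (hy : ∀ s ∈ stabilizer G y, ∀ n ∈ N, s * n * s⁻¹ ∈ N) : N.Normal := by
  have hQ : Subgroup.normalizer (N : Set G) = ⊤ := by
    apply E.gen hxy
    · intro s hs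
      rw [Subgroup.mem_normalizer_iff]
      intro n
      constructor
      · exact hx s hs n
      · intro h
        have := hx s⁻¹ ((stabilizer G x).inv_mem hs) _ h
        simpa [mul_assoc] using this
    · intro s hs
      rw [Subgroup.mem_normalizer_iff]
      intro n
      constructor
      · exact hy s hs n
      · intro h
        have := hy s⁻¹ ((stabilizer G y).inv_mem hs) _ h
        simpa [mul_assoc] using this
  exact Subgroup.normalizer_eq_top_iff.1 hQ

theorem bot_of_normal (N : Subgroup G) (hN : N.Normal) (x : Ω) (h : N ≤ stabilizer G x) : N = ⊥ := by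
  haveI := E.prim
  rw [eq_bot_iff]
  intro n hn
  rw [Subgroup.mem_bot]
  apply E.eq_one n
  intro z
  obtain ⟨g, rfl⟩ := exists_smul_eq G x z
  have h1 : g⁻¹ * n * g ∈ N := by
    have := hN.conj_mem n hn g⁻¹
    simpa using this
  have h2 : (g⁻¹ * n * g) • x = x := h h1
  calc n • g • x = g • ((g⁻¹ * n * g) • x) := by
        simp [mul_smul]
    _ = g • x := by rw [h2]

end EP

/-- A family of local `p`-cores. -/
structure Fam (p : ℕ) (P : Ω → Subgroup G) : Prop where
  le : ∀ x, P x ≤ stabilizer G x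
  isP : ∀ x, IsPGroup p (P x)
  norm : ∀ x, ∀ s ∈ stabilizer G x, ∀ n ∈ P x, s * n * s⁻¹ ∈ P x
  max : ∀ x (Q : Subgroup G), Q ≤ stabilizer G x → IsPGroup p Q →
    (∀ s ∈ stabilizer G x, ∀ n ∈ Q, s * n * s⁻¹ ∈ Q) → Q ≤ P x

namespace Fam

variable {p : ℕ} {P : Ω → Subgroup G} (F : Fam p P)
include F

theorem conj (x : Ω) (g : G) : ∀ n ∈ P x, g * n * g⁻¹ ∈ P (g • x) := by
  have hmax := F.max (g • x) ((P x).map (MulAut.conj g).toMonoidHom) ?_ ?_ ?_
  · intro n hn
    exact hmax ⟨n, hn, rfl⟩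
  · rintro _ ⟨n, hn, rfl⟩
    have h1 : n • x = x := F.le x hn
    show (g * n * g⁻¹) • (g • x) = g • x
    simp [mul_smul, h1]
  · exact (F.isP x).map _
  · rintro s hs _ ⟨n, hn, rfl⟩
    have hs' : (g⁻¹ * s * g) • x = x := by
      have : s • (g • x) = g • x := hs
      simp [mul_smul, this]
    refine ⟨(g⁻¹ * s * g) * n * (g⁻¹ * s * g)⁻¹, F.norm x _ hs' n hn, ?_⟩
    simp only [MulEquiv.toMonoidHom_eq_coe, MonoidHom.coe_coe, MulAut.conj_apply]
    group

theorem le_normalizer (x : Ω) : stabilizer G x ≤ Subgroup.normalizer (P x : Set G) := by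
  intro s hs
  rw [Subgroup.mem_normalizer_iff]
  intro n
  constructor
  · exact F.norm x s hs n
  · intro h
    have := F.norm x s⁻¹ ((stabilizer G x).inv_mem hs) _ h
    simpa [mul_assoc] using this

theorem card_eq [Finite G] (E : EP G Ω) (x y : Ω) : Nat.card (P x) = Nat.card (P y) := by
  haveI := E.prim
  obtain ⟨g, rfl⟩ := exists_smul_eq G x y
  have h1 : (P x).map (MulAut.conj g).toMonoidHom ≤ P (g • x) := by
    rintro _ ⟨n, hn, rfl⟩
    exact F.conj x g n hn
  have h2 : (P (g • x)).map (MulAut.conj g⁻¹).toMonoidHom ≤ P x := by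
    rintro _ ⟨n, hn, rfl⟩
    have := F.conj (g • x) g⁻¹ n hn
    simpa using this
  have e1 : Nat.card ((P x).map (MulAut.conj g).toMonoidHom) = Nat.card (P x) :=
    Subgroup.card_map_of_injective (MulAut.conj g).injective
  have e2 : Nat.card ((P (g • x)).map (MulAut.conj g⁻¹).toMonoidHom) = Nat.card (P (g • x)) :=
    Subgroup.card_map_of_injective (MulAut.conj g⁻¹).injective
  apply le_antisymm
  · rw [← e1]; exact Subgroup.card_le_of_le h1
  · rw [← e2]; exact Subgroup.card_le_of_le h2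

variable (E : EP G Ω) (hbot : ∀ x, P x ≠ ⊥)
include E hbot

/-- Symmetry of the relation "`P x` fixes `y`". -/
theorem symm_fix [Finite G] {x y : Ω} (hxy : x ≠ y) (hfix : ∀ n ∈ P x, n • y = y) : ∀ n ∈ P y, n • x = x := by
  by_contra hcon
  push Not at hcon
  obtain ⟨n0, hn0, hn0x⟩ := hcon
  have T := trans_of_normal (E.hep y x) (P y) (F.le y) (F.norm y) ⟨n0, hn0, hn0x⟩
  have hPxy : P x ≤ stabilizer G y := fun n hn => hfix n hn
  let Q : Subgroup G := P x ⊔ P y
  have hQp : IsPGroup p Q :=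
    IsPGroup.to_sup_of_normal_right' (F.isP x) (F.isP y) (hPxy.trans (F.le_normalizer y))
  have hQst : Q ≤ stabilizer G y := sup_le hPxy (F.le y)
  have hQn : ∀ s ∈ stabilizer G y, ∀ n ∈ Q, s * n * s⁻¹ ∈ Q := by
    intro s hs n hn
    obtain ⟨a, ha, hax⟩ := T s hs
    have hm1 : (a⁻¹ * s) • x = x := by
      rw [mul_smul, ← hax, inv_smul_smul]
    have hm2 : (a⁻¹ * s) ∈ stabilizer G y :=
      (stabilizer G y).mul_mem ((stabilizer G y).inv_mem (F.le y ha)) hs
    have hmQ : ∀ n ∈ Q, (a⁻¹ * s) * n * (a⁻¹ * s)⁻¹ ∈ Q := by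
      have : Q ≤ Q.comap (MulAut.conj (a⁻¹ * s)).toMonoidHom := by
        apply sup_le
        · intro u hu
          exact (le_sup_left : P x ≤ Q) (F.norm x _ hm1 u hu)
        · intro u hu
          exact (le_sup_right : P y ≤ Q) (F.norm y _ hm2 u hu)
      intro n hn
      exact this hn
    have haQ : a ∈ Q := (le_sup_right : P y ≤ Q) ha
    have := Q.mul_mem (Q.mul_mem haQ (hmQ n hn)) (Q.inv_mem haQ)
    have e : a * ((a⁻¹ * s) * n * (a⁻¹ * s)⁻¹) * a⁻¹ = s * n * s⁻¹ := by group
    rwa [e] at this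
  have hle : P x ≤ P y := le_sup_left.trans (F.max y Q hQst hQp hQn)
  have heq : P x = P y := Subgroup.eq_of_le_of_card_ge hle (F.card_eq E x y).ge
  have hN : (P x).Normal := E.normal_of hxy (P x) (F.norm x) (by rw [heq]; exact F.norm y)
  exact hbot x (E.bot_of_normal _ hN x (F.le x))

/-- Two points whose cores fix each other have cores with disjoint supports. -/
theorem disjoint_moves [Finite G] {x y γ : Ω} (hxy : x ≠ y) (hfix : ∀ n ∈ P x, n • y = y)
    (h1 : ∃ n ∈ P x, n • γ ≠ γ) (h2 : ∃ n ∈ P y, n • γ ≠ γ) : False := by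
  haveI := E.prim
  have hfix' := F.symm_fix E hbot hxy hfix
  have Tx := trans_of_normal (E.hep x γ) (P x) (F.le x) (F.norm x) h1
  have Ty := trans_of_normal (E.hep y γ) (P y) (F.le y) (F.norm y) h2
  have hS : orbit (stabilizer G x) γ = orbit (stabilizer G y) γ := by
    ext z
    constructor
    · rintro ⟨s, rfl⟩
      obtain ⟨n, hn, hns⟩ := Tx s s.2
      exact ⟨⟨n, hfix n hn⟩, hns⟩
    · rintro ⟨s, rfl⟩
      obtain ⟨n, hn, hns⟩ := Ty s s.2
      exact ⟨⟨n, hfix' n hn⟩, hns⟩
  have hinv := E.set_inv hxy (orbit (stabilizer G x) γ)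
    (by
      rintro s hs _ ⟨t, rfl⟩
      exact ⟨⟨s, hs⟩ * t, by simp [mul_smul]⟩)
    (by
      rw [hS]
      rintro s hs _ ⟨t, rfl⟩
      exact ⟨⟨s, hs⟩ * t, by simp [mul_smul]⟩)
  obtain ⟨g, hg⟩ := exists_smul_eq G γ x
  have hx : x ∈ orbit (stabilizer G x) γ := by
    have := hinv g γ (mem_orbit_self γ)
    rwa [hg] at this
  obtain ⟨s, hs⟩ := hx
  have hγ : γ = x := by
    have h3 : (s : G)⁻¹ • x = x := (stabilizer G x).inv_mem s.2
    have h4 : (s : G) • γ = x := hs
    calc γ = (s : G)⁻¹ • ((s : G) • γ) := by simp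
      _ = x := by rw [h4, h3]
  obtain ⟨n, hn, hnγ⟩ := h1
  apply hnγ
  rw [hγ]
  exact F.le x hn

/-- Every core moves every other point. -/
theorem moves_all [Finite G] {x y : Ω} (hxy : x ≠ y) : ∃ n ∈ P x, n • y ≠ y := by
  haveI := E.prim
  -- the relation
  let r : Ω → Ω → Prop := fun a b => a = b ∨ ∃ n ∈ P a, n • b ≠ b
  have rsymm : ∀ a b, r a b → r b a := by
    rintro a b (h | ⟨n, hn, hnb⟩)
    · exact Or.inl h.symm
    · by_cases hab : a = b
      · exact Or.inl hab.symm
      · right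
        by_contra hc
        push Not at hc
        exact hnb (F.symm_fix E hbot (Ne.symm hab) hc n hn)
  have rtrans : ∀ a b c, r a b → r b c → r a c := by
    intro a b c hab hbc
    rcases hab with rfl | hab
    · exact hbc
    rcases hbc with rfl | hbc
    · exact Or.inr hab
    by_cases hac : a = c
    · exact Or.inl hac
    right
    by_contra hc
    push Not at hc
    have h1 : ∃ n ∈ P c, n • b ≠ b := by
      have := rsymm b c (Or.inr hbc)
      rcases this with h | h
      · subst h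
        obtain ⟨n, hn, hnb⟩ := hab
        exact absurd (hc n hn) hnb
      · exact h
    exact F.disjoint_moves E hbot hac hc hab h1
  have rinv : ∀ (g : G) a b, r a b → r (g • a) (g • b) := by
    rintro g a b (h | ⟨n, hn, hnb⟩)
    · exact Or.inl (by rw [h])
    · right
      refine ⟨g * n * g⁻¹, F.conj a g n hn, ?_⟩
      intro h
      apply hnb
      have : g • (n • b) = g • b := by
        have e : (g * n * g⁻¹) • (g • b) = g • (n • b) := by simp [mul_smul]
        rw [← e, h]
      exact smul_left_cancel g this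
  let B : Set Ω := {b | r x b}
  have hB : IsBlock G B := by
    rw [isBlock_iff_smul_eq_smul_of_nonempty]
    have key : ∀ g₁ g₂ : G, (g₁ • B ∩ g₂ • B).Nonempty → g₁ • B ⊆ g₂ • B := by
      rintro g₁ g₂ ⟨u, ⟨a, ha, rfl⟩, hu2⟩ _ ⟨c, hc, rfl⟩
      rw [Set.mem_smul_set_iff_inv_smul_mem] at hu2 ⊢
      have h1 : r (g₁ • x) (g₁ • a) := rinv g₁ _ _ ha
      have h2 : r (g₁ • x) (g₁ • c) := rinv g₁ _ _ hc
      have h3 : r (g₂ • x) (g₁ • a) := by
        have := rinv g₂ _ _ hu2
        simpa using this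
      have h4 : r (g₂ • x) (g₁ • c) := rtrans _ _ _ h3 (rtrans _ _ _ (rsymm _ _ h1) h2)
      have := rinv g₂⁻¹ _ _ h4
      show r x (g₂⁻¹ • g₁ • c)
      simpa using this
    intro g₁ g₂ h
    apply subset_antisymm (key g₁ g₂ h)
    apply key g₂ g₁
    rwa [Set.inter_comm]
  rcases hB.subsingleton_or_eq_univ with h | h
  · exfalso
    apply hbot x
    rw [eq_bot_iff]
    intro n hn
    rw [Subgroup.mem_bot]
    apply E.eq_one n
    intro z
    by_contra hz
    have hzB : z ∈ B := Or.inr ⟨n, hn, hz⟩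
    have hxB : x ∈ B := Or.inl rfl
    have hzx : z = x := h hzB hxB
    rw [hzx] at hz
    exact hz (F.le x hn)
  · have : y ∈ B := by rw [h]; trivial
    rcases this with h1 | h1
    · exact absurd h1 hxy
    · exact h1

/-- The core is abelian of exponent `p`. -/
theorem comm_and_exp [Fact p.Prime] [Finite G] [Finite Ω] (x : Ω) :
    (∀ a ∈ P x, ∀ b ∈ P x, a * b = b * a) ∧ ∀ a ∈ P x, a ^ p = 1 := by
  constructor
  · intro a ha b hb
    have h1 : a * b * a⁻¹ * b⁻¹ = 1 := by
      apply E.eq_one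
      intro z
      by_cases hz : z = x
      · rw [hz]
        have : a * b * a⁻¹ * b⁻¹ ∈ P x :=
          (P x).mul_mem ((P x).mul_mem ((P x).mul_mem ha hb) ((P x).inv_mem ha)) ((P x).inv_mem hb)
        exact F.le x this
      · exact (image_elem (E.hep x z) (P x) (F.le x) (F.norm x) (F.isP x)).1 a ha b hb
    calc a * b = (a * b * a⁻¹ * b⁻¹) * (b * a) := by group
      _ = b * a := by rw [h1, one_mul]
  · intro a ha
    apply E.eq_one
    intro z
    by_cases hz : z = x
    · rw [hz]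
      exact F.le x ((P x).pow_mem ha p)
    · exact (image_elem (E.hep x z) (P x) (F.le x) (F.norm x) (F.isP x)).2 a ha

/-- The decomposition `St x = P x · (St x ∩ St y)`. -/
theorem decomp [Finite G] {x y : Ω} (hxy : x ≠ y) (s : G) (hs : s ∈ stabilizer G x) :
    ∃ a ∈ P x, a⁻¹ * s ∈ stabilizer G x ∧ a⁻¹ * s ∈ stabilizer G y := by
  obtain ⟨a, ha, hay⟩ := trans_of_normal (E.hep x y) (P x) (F.le x) (F.norm x) (F.moves_all E hbot hxy) s hs
  refine ⟨a, ha, (stabilizer G x).mul_mem ((stabilizer G x).inv_mem (F.le x ha)) hs, ?_⟩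
  show (a⁻¹ * s) • y = y
  rw [mul_smul, ← hay, inv_smul_smul]

/-- The core is semiregular on the remaining points. -/
theorem semireg [Fact p.Prime] [Finite G] [Finite Ω] {x y : Ω} (hxy : x ≠ y) : P x ⊓ stabilizer G y = ⊥ := by
  have key : ∀ {x y : Ω}, x ≠ y → P x ⊓ stabilizer G y ≤ P y := by
    intro x y hxy
    let R : Subgroup G := P x ⊓ stabilizer G y
    let Q : Subgroup G := R ⊔ P y
    have hRst : R ≤ stabilizer G y := inf_le_right
    have hQp : IsPGroup p Q :=
      IsPGroup.to_sup_of_normal_right' ((F.isP x).to_le inf_le_left) (F.isP y) (hRst.trans (F.le_normalizer y))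
    have hQst : Q ≤ stabilizer G y := sup_le hRst (F.le y)
    have hQn : ∀ s ∈ stabilizer G y, ∀ n ∈ Q, s * n * s⁻¹ ∈ Q := by
      intro s hs n hn
      obtain ⟨a, ha, hm2, hm1⟩ := F.decomp E hbot (Ne.symm hxy) s hs
      have hmQ : ∀ n ∈ Q, (a⁻¹ * s) * n * (a⁻¹ * s)⁻¹ ∈ Q := by
        have : Q ≤ Q.comap (MulAut.conj (a⁻¹ * s)).toMonoidHom := by
          apply sup_le
          · intro u hu
            refine (le_sup_left : R ≤ Q) ⟨F.norm x _ hm1 u hu.1, ?_⟩
            exact (stabilizer G y).mul_mem ((stabilizer G y).mul_mem hm2 hu.2) ((stabilizer G y).inv_mem hm2)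
          · intro u hu
            exact (le_sup_right : P y ≤ Q) (F.norm y _ hm2 u hu)
        intro n hn
        exact this hn
      have haQ : a ∈ Q := (le_sup_right : P y ≤ Q) ha
      have := Q.mul_mem (Q.mul_mem haQ (hmQ n hn)) (Q.inv_mem haQ)
      have e : a * ((a⁻¹ * s) * n * (a⁻¹ * s)⁻¹) * a⁻¹ = s * n * s⁻¹ := by group
      rwa [e] at this
    exact le_sup_left.trans (F.max y Q hQst hQp hQn)
  let N : Subgroup G := P x ⊓ P y
  have hc := fun z => (F.comm_and_exp E hbot z).1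
  have hNx : ∀ s ∈ stabilizer G x, ∀ n ∈ N, s * n * s⁻¹ ∈ N := by
    intro s hs n hn
    obtain ⟨a, ha, hm1, hm2⟩ := F.decomp E hbot hxy s hs
    have e1 : (a⁻¹ * s) * n * (a⁻¹ * s)⁻¹ ∈ N :=
      ⟨F.norm x _ hm1 n hn.1, F.norm y _ hm2 n hn.2⟩
    have e2 : a * ((a⁻¹ * s) * n * (a⁻¹ * s)⁻¹) * a⁻¹ = s * n * s⁻¹ := by group
    rw [← e2]
    have e3 := hc x a ha _ e1.1
    rw [e3, mul_inv_cancel_right]
    exact e1
  have hNy : ∀ s ∈ stabilizer G y, ∀ n ∈ N, s * n * s⁻¹ ∈ N := by
    intro s hs n hn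
    obtain ⟨a, ha, hm2, hm1⟩ := F.decomp E hbot (Ne.symm hxy) s hs
    have e1 : (a⁻¹ * s) * n * (a⁻¹ * s)⁻¹ ∈ N :=
      ⟨F.norm x _ hm1 n hn.1, F.norm y _ hm2 n hn.2⟩
    have e2 : a * ((a⁻¹ * s) * n * (a⁻¹ * s)⁻¹) * a⁻¹ = s * n * s⁻¹ := by group
    rw [← e2]
    have e3 := hc y a ha _ e1.2
    rw [e3, mul_inv_cancel_right]
    exact e1
  have hN : N.Normal := E.normal_of hxy N hNx hNy
  have hN1 : N = ⊥ := E.bot_of_normal N hN x (inf_le_left.trans (F.le x))
  rw [eq_bot_iff]
  intro n hn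
  have : n ∈ N := ⟨hn.1, key hxy hn⟩
  rwa [hN1] at this

/-- `p'`-elements centralizing the core are trivial. -/
theorem pprime_trivial [Fact p.Prime] [Finite G] [Finite Ω] {x : Ω} {u : G} (hu : u ∈ stabilizer G x)
    (huc : ∀ n ∈ P x, u * n = n * u) {m : ℕ} (hm : u ^ m = 1) (hmp : m.Coprime p) : u = 1 := by
  apply E.eq_one
  intro y
  by_cases hy : y = x
  · rw [hy]; exact hu
  have hxy : x ≠ y := Ne.symm hy
  obtain ⟨n, hn, hny⟩ := trans_of_normal (E.hep x y) (P x) (F.le x) (F.norm x) (F.moves_all E hbot hxy) u hu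
  have hpow : ∀ j : ℕ, (u ^ j) • y = (n ^ j) • y := by
    intro j
    induction j with
    | zero => simp
    | succ j ih =>
      have hc : Commute (u ^ j) n := (show Commute u n from huc n hn).pow_left j
      rw [pow_succ, mul_smul, ← hny]
      calc (u ^ j) • (n • y) = (u ^ j * n) • y := (mul_smul _ _ _).symm
        _ = (n * u ^ j) • y := by rw [hc.eq]
        _ = n • ((u ^ j) • y) := mul_smul _ _ _
        _ = n • ((n ^ j) • y) := by rw [ih]
        _ = (n ^ (j + 1)) • y := by rw [pow_succ', mul_smul]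
  have h1 := hpow m
  rw [hm, one_smul] at h1
  have h2 : n ^ m ∈ P x ⊓ stabilizer G y := ⟨(P x).pow_mem hn m, h1.symm⟩
  rw [F.semireg E hbot hxy, Subgroup.mem_bot] at h2
  have h3 : n ^ p = 1 := (F.comm_and_exp E hbot x).2 n hn
  have h4 := (pow_gcd_eq_one (a := n)).2 ⟨h2, h3⟩
  rw [hmp, pow_one] at h4
  rw [← hny, h4, one_smul]

/-- The core is self-centralizing. -/
theorem centralizer_le [Fact p.Prime] [Finite G] [Finite Ω] {x : Ω} {c : G} (hc : c ∈ stabilizer G x)
    (hcc : ∀ n ∈ P x, c * n = n * c) : c ∈ P x := by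
  let C : Subgroup G := stabilizer G x ⊓ Subgroup.centralizer (P x : Set G)
  have hCp : IsPGroup p C := by
    intro g
    have ho : orderOf (g : G) ≠ 0 := (orderOf_pos _).ne'
    obtain ⟨a, m, hm, hom⟩ := Nat.exists_eq_pow_mul_and_not_dvd ho p (Fact.out : p.Prime).ne_one
    refine ⟨a, Subtype.ext ?_⟩
    have hg1 : ((g : G) ^ p ^ a) ^ m = 1 := by
      rw [← pow_mul, ← hom, pow_orderOf_eq_one]
    have hmc : m.Coprime p := ((Nat.Prime.coprime_iff_not_dvd (Fact.out : p.Prime)).2 hm).symm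
    have hu : (g : G) ^ p ^ a ∈ stabilizer G x := (stabilizer G x).pow_mem g.2.1 _
    have huc : ∀ n ∈ P x, (g : G) ^ p ^ a * n = n * (g : G) ^ p ^ a := by
      intro n hn
      have h0 : Commute (g : G) n := ((Subgroup.mem_centralizer_iff.1 g.2.2) n hn).symm
      exact (h0.pow_left _).eq
    have := F.pprime_trivial E hbot hu huc hg1 hmc
    simpa using this
  have hCn : ∀ s ∈ stabilizer G x, ∀ n ∈ C, s * n * s⁻¹ ∈ C := by
    intro s hs n hn
    refine ⟨(stabilizer G x).mul_mem ((stabilizer G x).mul_mem hs hn.1) ((stabilizer G x).inv_mem hs), ?_⟩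
    refine Subgroup.mem_centralizer_iff.2 ?_
    intro h hh
    have h1 : s⁻¹ * h * s ∈ P x := by
      have := F.norm x s⁻¹ ((stabilizer G x).inv_mem hs) h hh
      simpa using this
    have h2 := (Subgroup.mem_centralizer_iff.1 hn.2) _ h1
    calc h * (s * n * s⁻¹) = s * ((s⁻¹ * h * s) * n) * s⁻¹ := by group
      _ = s * (n * (s⁻¹ * h * s)) * s⁻¹ := by rw [h2]
      _ = s * n * s⁻¹ * h := by group
  have hle := F.max x C inf_le_left hCp hCn
  exact hle ⟨hc, Subgroup.mem_centralizer_iff.2 (fun n hn => (hcc n hn).symm)⟩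

/-- A nontrivial central element of the stabilizer forces the stabilizer to be of prime order. -/
theorem center_case [Fact p.Prime] [Finite G] [Finite Ω] {x : Ω} {z : G} (hz : z ∈ stabilizer G x)
    (hzc : ∀ s ∈ stabilizer G x, s * z = z * s) (hz1 : z ≠ 1) : (Nat.card (stabilizer G x)).Prime := by
  have hzP : z ∈ P x := F.centralizer_le E hbot hz (fun n hn => (hzc n (F.le x hn)).symm)
  have hzexp : z ^ p = 1 := (F.comm_and_exp E hbot x).2 z hzP
  -- a point different from x
  obtain ⟨y, hy⟩ : ∃ y, z • y ≠ y := by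
    by_contra hc
    push Not at hc
    exact hz1 (E.eq_one z hc)
  have hxy : x ≠ y := by
    rintro rfl
    exact hy hz
  let T : Subgroup G := Subgroup.zpowers z
  have hTst : T ≤ stabilizer G x := by
    rw [Subgroup.zpowers_le]
    exact hz
  have hTc : ∀ s ∈ stabilizer G x, ∀ t ∈ T, s * t = t * s := by
    rintro s hs _ ⟨k, rfl⟩
    have : Commute s z := hzc s hs
    exact (this.zpow_right k).eq
  have hT := trans_of_normal (E.hep x y) T hTst
    (fun s hs n hn => by
      rw [hTc s hs n hn, mul_inv_cancel_right]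
      exact hn)
    ⟨z, Subgroup.mem_zpowers z, hy⟩
  have hu : ∀ u ∈ stabilizer G x, u ∈ stabilizer G y → u = 1 := by
    intro u hux huy
    -- u fixes the whole orbit of y
    have hfix : ∀ s ∈ stabilizer G x, u • (s • y) = s • y := by
      intro s hs
      obtain ⟨t, ht, hty⟩ := hT s hs
      rw [← hty, ← mul_smul, hTc u hux t ht, mul_smul, show u • y = y from huy]
    have hcomm : ∀ n ∈ P x, u * n = n * u := by
      intro n hn
      have hw : u * n * u⁻¹ * n⁻¹ ∈ P x ⊓ stabilizer G y := by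
        refine ⟨(P x).mul_mem (F.norm x u hux n hn) ((P x).inv_mem hn), ?_⟩
        show (u * n * u⁻¹ * n⁻¹) • y = y
        have hnx := F.le x hn
        have h1 : u⁻¹ • (n⁻¹ • y) = n⁻¹ • y := by
          have := hfix n⁻¹ ((stabilizer G x).inv_mem hnx)
          conv_lhs => rw [← this]
          simp
        simp only [mul_smul]
        rw [h1, smul_inv_smul]
        exact huy
      rw [F.semireg E hbot hxy, Subgroup.mem_bot] at hw
      calc u * n = (u * n * u⁻¹ * n⁻¹) * (n * u) := by group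
        _ = n * u := by rw [hw, one_mul]
    have huP := F.centralizer_le E hbot hux hcomm
    have h2 : u ∈ P x ⊓ stabilizer G y := ⟨huP, huy⟩
    rwa [F.semireg E hbot hxy, Subgroup.mem_bot] at h2
  have hall : stabilizer G x = T := by
    apply le_antisymm _ hTst
    intro s hs
    obtain ⟨t, ht, hty⟩ := hT s hs
    have : t⁻¹ * s = 1 := hu _ ((stabilizer G x).mul_mem ((stabilizer G x).inv_mem (hTst ht)) hs)
      (by
        show (t⁻¹ * s) • y = y
        rw [mul_smul, ← hty, inv_smul_smul])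
    have e : s = t := by
      have := congrArg (fun f => t * f) this
      simpa using this
    rw [e]
    exact ht
  have ho : orderOf z = p := orderOf_eq_prime hzexp hz1
  rw [hall, Nat.card_zpowers, ho]
  exact Fact.out

end Fam

/-- `O_p(G_x)` as a subgroup of `G`. -/
def O (p : ℕ) (x : Ω) : Subgroup G := (Cfsg.pCore p ↥(stabilizer G x)).map (stabilizer G x).subtype

theorem oFam (p : ℕ) [Fact p.Prime] [Finite G] : Fam p (O (G := G) (Ω := Ω) p) where
  le x := Subgroup.map_subtype_le _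
  isP x := (Cfsg.Agent.Lib.Basic.pCore_isPGroup p).map _
  norm x := by
    rintro s hs _ ⟨m, hm, rfl⟩
    refine ⟨⟨s, hs⟩ * m * (⟨s, hs⟩ : stabilizer G x)⁻¹, ?_, rfl⟩
    exact (Cfsg.Agent.Lib.Basic.pCore_normal p).conj_mem m hm _
  max x Q hQ hQp hQn := by
    have h1 : (Q.subgroupOf (stabilizer G x)).Normal := ⟨fun n hn g => by
      rw [Subgroup.mem_subgroupOf] at hn ⊢
      exact hQn g g.2 n hn⟩
    have h2 : IsPGroup p (Q.subgroupOf (stabilizer G x)) := by
      intro g
      obtain ⟨k, hk⟩ := hQp ⟨g.1.1, Subgroup.mem_subgroupOf.1 g.2⟩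
      refine ⟨k, Subtype.ext (Subtype.ext ?_)⟩
      have := congrArg Subtype.val hk
      simpa using this
    have h3 := Cfsg.Agent.Lib.Basic.le_pCore h1 h2
    intro n hn
    exact ⟨⟨n, hQ hn⟩, h3 (Subgroup.mem_subgroupOf.2 hn), rfl⟩

/-- Semiregularity gives divisibility of the number of remaining points. -/
theorem card_dvd {Ω : Type*} [Fintype Ω] [MulAction G Ω] [Finite G] (A : Subgroup G) (α : Ω)
    (hA : A ≤ stabilizer G α) (hs : ∀ y, y ≠ α → A ⊓ stabilizer G y = ⊥) :
    Nat.card A ∣ Fintype.card Ω - 1 := by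
  classical
  let S : SubMulAction A Ω :=
    { carrier := {y | y ≠ α}
      smul_mem' := by
        intro a y hy h
        apply hy
        have h1 : (a : G) • α = α := hA a.2
        have h2 : (a : G) • y = α := h
        have h3 : (a : G) • y = (a : G) • α := by rw [h1, h2]
        exact smul_left_cancel _ h3 }
  have hst : ∀ b : S, stabilizer A b = ⊥ := by
    intro b
    rw [eq_bot_iff]
    intro a ha
    rw [Subgroup.mem_bot]
    have h1 : (a : G) • (b : Ω) = b := congrArg Subtype.val ha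
    have h2 : (a : G) ∈ A ⊓ stabilizer G (b : Ω) := ⟨a.2, h1⟩
    rw [hs b b.2, Subgroup.mem_bot] at h2
    exact Subtype.ext h2
  have e := Nat.card_congr (MulAction.selfEquivOrbitsQuotientProd hst)
  rw [Nat.card_prod] at e
  have hS : Nat.card S = Fintype.card Ω - 1 := by
    have : Nat.card S = Nat.card {y : Ω // y ≠ α} := rfl
    rw [this, Nat.card_eq_fintype_card]
    simp
  rw [← hS, e]
  exact dvd_mul_left _ _

/-- The linear action on an elementary abelian group. -/
theorem gl_core {H V : Type*} [Group H] [AddCommGroup V] {p e : ℕ} [Fact p.Prime] [Module (ZMod p) V] [Finite V]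
    (hcard : Nat.card V = p ^ e) (T : H → (V →+ V)) (h1 : ∀ v, T 1 v = v) (hm : ∀ h k v, T (h * k) v = T h (T k v)) :
    ∃ φ : H →* GL (Fin e) (ZMod p), ∀ h, φ h = 1 ↔ ∀ v, T h v = v := by
  classical
  haveI : Module.Finite (ZMod p) V := Module.Finite.of_finite
  have hfr : Module.finrank (ZMod p) V = e := by
    have h1 := Module.natCard_eq_pow_finrank (K := ZMod p) (V := V)
    rw [Nat.card_zmod, hcard] at h1
    exact (Nat.pow_right_injective (Fact.out : p.Prime).two_le h1).symm
  let b := Module.finBasisOfFinrankEq (ZMod p) V hfr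
  let f : H →* Module.End (ZMod p) V :=
    { toFun := fun h => (T h).toZModLinearMap p
      map_one' := by
        refine LinearMap.ext fun a => ?_
        rw [AddMonoidHom.coe_toZModLinearMap, h1]
        rfl
      map_mul' := by
        intro h k
        refine LinearMap.ext fun a => ?_
        rw [AddMonoidHom.coe_toZModLinearMap, hm]
        rfl }
  let M : Module.End (ZMod p) V ≃ₐ[ZMod p] Matrix (Fin e) (Fin e) (ZMod p) := LinearMap.toMatrixAlgEquiv b
  let φ : H →* GL (Fin e) (ZMod p) := (Units.map (M : _ →* _)).comp f.toHomUnits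
  refine ⟨φ, fun h => ?_⟩
  constructor
  · intro hh
    have h1 : M (f h) = 1 := by
      have := congrArg Units.val hh
      simpa [φ] using this
    have h2 : f h = 1 := by
      apply M.injective
      rw [h1, map_one]
    intro v
    exact LinearMap.congr_fun h2 v
  · intro h2
    apply Units.ext
    show M (f h) = 1
    have h3 : f h = 1 := by
      refine LinearMap.ext fun a => ?_
      exact h2 a
    rw [h3, map_one]

theorem exists_gl_aux {H A : Type*} [Group H] [CommGroup A] [Finite A] {p e : ℕ} [Fact p.Prime]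
    (act : H →* MulAut A) (hexp : ∀ a : A, a ^ p = 1) (hcard : Nat.card A = p ^ e) :
    ∃ φ : H →* GL (Fin e) (ZMod p), ∀ h, φ h = 1 ↔ act h = 1 := by
  classical
  have h0 : ∀ x : Additive A, p • x = 0 := by
    intro x
    apply Additive.toMul.injective
    exact hexp (Additive.toMul x)
  letI : Module (ZMod p) (Additive A) := AddCommGroup.zmodModule h0
  haveI : Finite (Additive A) := inferInstanceAs (Finite A)
  obtain ⟨φ, hφ⟩ := gl_core (p := p) (e := e) (V := Additive A) hcard
    (fun h => MonoidHom.toAdditive ((act h : A ≃* A) : A →* A))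
    (fun v => by rw [map_one]; rfl) (fun h k v => by rw [map_mul]; rfl)
  refine ⟨φ, fun h => ?_⟩
  rw [hφ]
  constructor
  · intro h2
    ext a
    exact congrArg Additive.toMul (h2 (Additive.ofMul a))
  · intro hh v
    simp only [hh]
    rfl

/-- The linear action on an elementary abelian normal subgroup. -/
theorem exists_gl {H : Type*} [Group H] (F : Subgroup H) [F.Normal] [Finite F] {p e : ℕ} [Fact p.Prime]
    (hcomm : ∀ a ∈ F, ∀ b ∈ F, a * b = b * a) (hcard : Nat.card F = p ^ e) (hexp : ∀ x ∈ F, x ^ p = 1)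
    (hC : ∀ c : H, (∀ n ∈ F, c * n = n * c) → c ∈ F) :
    ∃ φ : H →* GL (Fin e) (ZMod p), φ.ker = F := by
  let act0 : H →* MulAut F := MulAut.conjNormal
  letI : CommGroup F := { (inferInstance : Group F) with
    mul_comm := fun a b => Subtype.ext (hcomm a a.2 b b.2) }
  obtain ⟨φ, hφ⟩ := exists_gl_aux (A := F) (p := p) (e := e) act0
    (fun a => Subtype.ext (hexp a a.2)) hcard
  refine ⟨φ, ?_⟩
  ext h
  rw [MonoidHom.mem_ker, hφ]
  constructor
  · intro hh
    apply hC
    intro n hn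
    have h3 := congrArg (fun g : MulAut F => ((g ⟨n, hn⟩ : F) : H)) hh
    have h4 : h * n * h⁻¹ = n := h3
    calc h * n = (h * n * h⁻¹) * h := by group
      _ = n * h := by rw [h4]
  · intro hh
    ext a
    show h * (a : H) * h⁻¹ = a
    rw [hcomm h hh a a.2, mul_inv_cancel_right]

/-- **Extremely primitive groups: the structure of a point stabilizer.** -/
theorem main_extprim {G : Type*} [Group G] [Finite G] {Ω : Type*} [Fintype Ω] [MulAction G Ω] [FaithfulSMul G Ω]
    (hprim : MulAction.IsPreprimitive G Ω)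
    (hep : ∀ (α : Ω) (ω : Ω), MulAction.IsPreprimitive (MulAction.stabilizer G α) (MulAction.orbit (MulAction.stabilizer G α) ω))
    (α : Ω) (hH1 : MulAction.stabilizer G α ≠ ⊥) (hHp : ¬ (Nat.card (MulAction.stabilizer G α)).Prime) :
    Subgroup.center (MulAction.stabilizer G α) = ⊥ ∧
    IsMulCommutative (Cfsg.fittingSubgroup (MulAction.stabilizer G α)) ∧
    ∃ p e : ℕ, p.Prime ∧ Nat.card (Cfsg.fittingSubgroup (MulAction.stabilizer G α)) = p ^ e ∧
      (∀ x ∈ Cfsg.fittingSubgroup (MulAction.stabilizer G α), x ^ p = 1) ∧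
      (Cfsg.fittingSubgroup (MulAction.stabilizer G α) ≠ ⊥ →
        p ^ e ∣ Fintype.card Ω - 1 ∧
        ∃ φ : MulAction.stabilizer G α →* GL (Fin e) (ZMod p), φ.ker = Cfsg.fittingSubgroup (MulAction.stabilizer G α)) := by
  classical
  have hne : ∀ x : Ω, stabilizer G x ≠ ⊥ := by
    intro x
    obtain ⟨g, rfl⟩ := exists_smul_eq G α x
    rw [stabilizer_smul_eq_stabilizer_map_conj]
    intro h
    apply hH1
    rw [eq_bot_iff]
    intro s hs
    have : (MulAut.conj g).toMonoidHom s ∈ (stabilizer G α).map (MulAut.conj g).toMonoidHom := ⟨s, hs, rfl⟩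
    rw [h, Subgroup.mem_bot] at this
    rw [Subgroup.mem_bot]
    exact (MulAut.conj g).injective (by rw [map_one]; exact this)
  have E : EP G Ω := ⟨hprim, inferInstance, hep, hne⟩
  set H := stabilizer G α with hHdef
  have hfam_bot : ∀ (p : ℕ) [Fact p.Prime], Cfsg.pCore p ↥H ≠ ⊥ → ∀ x : Ω, O (G := G) p x ≠ ⊥ := by
    intro p _ hp x
    obtain ⟨n, hn, hn1⟩ := (Subgroup.ne_bot_iff_exists_ne_one (H := Cfsg.pCore p ↥H)).1 hp |> fun ⟨t, h⟩ =>
      (⟨t.1, t.2, fun h1 => h (Subtype.ext h1)⟩ : ∃ n, n ∈ Cfsg.pCore p ↥H ∧ n ≠ 1)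
    obtain ⟨g, rfl⟩ := exists_smul_eq G α x
    have h1 : g * (n : G) * g⁻¹ ∈ O (G := G) p (g • α) := (oFam p).conj α g _ ⟨n, hn, rfl⟩
    intro h
    rw [h, Subgroup.mem_bot] at h1
    apply hn1
    apply Subtype.ext
    have : (n : G) = g⁻¹ * (g * (n : G) * g⁻¹) * g := by group
    rw [this, h1]
    simp
  by_cases hF : Cfsg.fittingSubgroup ↥H = ⊥
  · -- the Fitting subgroup is trivial
    refine ⟨?_, ?_, 2, 0, Nat.prime_two, ?_, ?_, ?_⟩
    · rw [eq_bot_iff, ← hF]
      apply Cfsg.Agent.Lib.Basic.le_fittingSubgroup_of_nilpotent inferInstance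
      letI : CommGroup (Subgroup.center ↥H) := { (inferInstance : Group (Subgroup.center ↥H)) with
        mul_comm := fun a b => Subtype.ext (Subgroup.mem_center_iff.1 a.2 b).symm }
      exact CommGroup.isNilpotent
    · rw [hF]
      exact ⟨⟨fun a b => Subsingleton.elim _ _⟩⟩
    · rw [hF]
      simp
    · intro x hx
      rw [hF, Subgroup.mem_bot] at hx
      rw [hx, one_pow]
    · intro h
      exact absurd hF h
  -- a prime with a nontrivial core
  obtain ⟨p, hp, hpF⟩ : ∃ p : ℕ, p.Prime ∧ Cfsg.pCore p ↥H ≠ ⊥ := by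
    by_contra hc
    push Not at hc
    apply hF
    rw [Cfsg.Agent.Lib.Basic.fittingSubgroup_eq_iSup_pCore, eq_bot_iff]
    apply iSup_le
    intro q
    rw [hc q q.2]
  haveI : Fact p.Prime := ⟨hp⟩
  have F := oFam (G := G) (Ω := Ω) p
  have hbot := hfam_bot p hpF
  have hO : ∀ n : H, n ∈ Cfsg.pCore p ↥H ↔ (n : G) ∈ O (G := G) p α := by
    intro n
    constructor
    · intro hn
      exact ⟨n, hn, rfl⟩
    · rintro ⟨m, hm, hmn⟩
      have : m = n := Subtype.ext hmn
      rwa [← this]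
  -- other primes do not occur
  have hother : ∀ q : ℕ, q.Prime → q ≠ p → Cfsg.pCore q ↥H = ⊥ := by
    intro q hq hqp
    haveI : Fact q.Prime := ⟨hq⟩
    rw [eq_bot_iff]
    intro u hu
    rw [Subgroup.mem_bot]
    apply Subtype.ext
    show (u : G) = 1
    have huO : (u : G) ∈ O (G := G) q α := ⟨u, hu, rfl⟩
    have F' := oFam (G := G) (Ω := Ω) q
    obtain ⟨k, hk⟩ := F'.isP α ⟨u, huO⟩
    have hk' : (u : G) ^ q ^ k = 1 := by
      have := congrArg Subtype.val hk
      simpa using this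
    refine F.pprime_trivial E hbot u.2 ?_ hk' ?_
    · intro n hn
      have hw1 : (u : G) * n * (u : G)⁻¹ * n⁻¹ ∈ O (G := G) p α :=
        (O p α).mul_mem (F.norm α u u.2 n hn) ((O p α).inv_mem hn)
      have hnst : n ∈ stabilizer G α := F.le α hn
      have hw2 : (u : G) * n * (u : G)⁻¹ * n⁻¹ ∈ O (G := G) q α := by
        have := (O q α).mul_mem huO (F'.norm α n hnst _ ((O q α).inv_mem huO))
        have e : (u : G) * (n * (u : G)⁻¹ * n⁻¹) = (u : G) * n * (u : G)⁻¹ * n⁻¹ := by group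
        rwa [e] at this
      obtain ⟨a, ha⟩ := F.isP α ⟨_, hw1⟩
      obtain ⟨b, hb⟩ := F'.isP α ⟨_, hw2⟩
      have ha' : ((u : G) * n * (u : G)⁻¹ * n⁻¹) ^ p ^ a = 1 := by
        have := congrArg Subtype.val ha
        simpa using this
      have hb' : ((u : G) * n * (u : G)⁻¹ * n⁻¹) ^ q ^ b = 1 := by
        have := congrArg Subtype.val hb
        simpa using this
      have hg := (pow_gcd_eq_one (a := (u : G) * n * (u : G)⁻¹ * n⁻¹)).2 ⟨ha', hb'⟩
      have hco : Nat.gcd (p ^ a) (q ^ b) = 1 :=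
        Nat.Coprime.pow _ _ ((Nat.coprime_primes hp hq).2 (Ne.symm hqp))
      rw [hco, pow_one] at hg
      calc (u : G) * n = ((u : G) * n * (u : G)⁻¹ * n⁻¹) * (n * u) := by group
        _ = n * u := by rw [hg, one_mul]
    · exact Nat.Coprime.pow_left _ ((Nat.coprime_primes hq hp).2 hqp)
  have hFeq : Cfsg.fittingSubgroup ↥H = Cfsg.pCore p ↥H := by
    apply le_antisymm
    · rw [Cfsg.Agent.Lib.Basic.fittingSubgroup_eq_iSup_pCore]
      apply iSup_le
      intro q
      by_cases hq : (q : ℕ) = p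
      · rw [hq]
      · rw [hother q q.2 hq]
        exact bot_le
    · exact Cfsg.Agent.Lib.Basic.pCore_le_fittingSubgroup p
  obtain ⟨hc, hx⟩ := F.comm_and_exp E hbot α
  have hFO : ∀ n : H, n ∈ Cfsg.fittingSubgroup ↥H ↔ (n : G) ∈ O (G := G) p α := by
    intro n
    rw [hFeq]
    exact hO n
  obtain ⟨e, he⟩ := IsPGroup.iff_card.1 (Cfsg.Agent.Lib.Basic.pCore_isPGroup (G := ↥H) p)
  have hcard : Nat.card (Cfsg.fittingSubgroup ↥H) = p ^ e := by rw [hFeq]; exact he
  have hcardO : Nat.card (O (G := G) (Ω := Ω) p α) = p ^ e := by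
    have : Nat.card (O (G := G) (Ω := Ω) p α) = Nat.card (Cfsg.pCore p ↥H) :=
      Subgroup.card_map_of_injective (Subgroup.subtype_injective _)
    rw [this, he]
  refine ⟨?_, ?_, p, e, hp, hcard, ?_, ?_⟩
  · -- the centre
    rw [eq_bot_iff]
    intro z hz
    rw [Subgroup.mem_bot]
    by_contra hz1
    apply hHp
    have hz1' : (z : G) ≠ 1 := fun h => hz1 (Subtype.ext h)
    refine F.center_case E hbot z.2 ?_ hz1'
    intro s hs
    have := (Subgroup.mem_center_iff.1 hz) ⟨s, hs⟩
    exact congrArg Subtype.val this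
  · refine ⟨⟨fun a b => ?_⟩⟩
    apply Subtype.ext
    apply Subtype.ext
    exact hc _ ((hFO _).1 a.2) _ ((hFO _).1 b.2)
  · intro x hxF
    apply Subtype.ext
    exact hx _ ((hFO _).1 hxF)
  · intro _
    constructor
    · have := card_dvd (O (G := G) (Ω := Ω) p α) α (F.le α) (fun y hy => F.semireg E hbot (Ne.symm hy))
      rwa [hcardO] at this
    · apply exists_gl
      · intro a ha b hb
        apply Subtype.ext
        exact hc _ ((hFO _).1 ha) _ ((hFO _).1 hb)
      · exact hcard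
      · intro x hxF
        apply Subtype.ext
        exact hx _ ((hFO _).1 hxF)
      · intro c hcc
        rw [hFO]
        apply F.centralizer_le E hbot c.2
        intro n hn
        have hnH : n ∈ H := F.le α hn
        have := hcc ⟨n, hnH⟩ ((hFO _).2 hn)
        exact congrArg Subtype.val this

end Cfsg.Agent.Lib.Misc19.ExtPrim
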