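import Mathlib

/-! Regular unipotent elements of `Sp_{2m}(q)`, `q` odd: the centraliser is the norm-one group of
the truncated polynomial ring with the involution attached to the symplectic form. -/

set_option autoImplicit false

namespace Cfsg.Agent.Lib.Misc19.RegUnipSp

section Abstract

variable {F R : Type*} [Field F] [CommRing R] [Algebra F R]

/-- Powers of a nilpotent element of exact index are independent. -/
theorem powers_li {y : R} {d : ℕ} (hd : y ^ d = 0) (hd' : y ^ (d - 1) ≠ 0) :
    LinearIndependent F (fun i : Fin d => y ^ (i : ℕ)) := by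
  rw [Fintype.linearIndependent_iff]
  intro c hc
  have key : ∀ k (hk : k < d), c ⟨k, hk⟩ = 0 := by
    intro k
    induction k using Nat.strong_induction_on with
    | _ k ih =>
      intro hk
      have h1 := congrArg (fun x => y ^ (d - 1 - k) * x) hc
      simp only [mul_zero, Finset.mul_sum] at h1
      rw [Finset.sum_eq_single ⟨k, hk⟩] at h1
      · rw [mul_smul_comm, ← pow_add] at h1
        have e : d - 1 - k + k = d - 1 := by omega
        simp only [e] at h1
        exact (smul_eq_zero.mp h1).resolve_right hd'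
      · intro j _ hj
        by_cases hjk : (j : ℕ) < k
        · have := ih j hjk j.2
          simp only [Fin.eta] at this
          rw [this, zero_smul, mul_zero]
        · have hne : (j : ℕ) ≠ k := fun h => hj (Fin.ext h)
          rw [mul_smul_comm, ← pow_add, pow_eq_zero_of_le (by omega) hd, smul_zero]
      · simp
  exact fun i => key i i.2

/-- `∑_{k < 2m} f k = ∑_{i < m} (f (2i) + f (2i+1))`. -/
theorem sum_range_two_mul {M : Type*} [AddCommMonoid M] (f : ℕ → M) (m : ℕ) :
    ∑ k ∈ Finset.range (2 * m), f k = ∑ i ∈ Finset.range m, (f (2 * i) + f (2 * i + 1)) := by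
  induction m with
  | zero => simp
  | succ n ih =>
    rw [show 2 * (n + 1) = 2 * n + 1 + 1 by ring, Finset.sum_range_succ, Finset.sum_range_succ, ih,
      Finset.sum_range_succ, add_assoc]

variable {m : ℕ} {N : R} (σ : R →ₐ[F] R)

/-- The setting. -/
structure Setting (N : R) (m : ℕ) (σ : R →ₐ[F] R) : Prop where
  hm : 1 ≤ m
  h2 : (2 : F) ≠ 0
  hN : N ^ (2 * m) = 0
  hN' : N ^ (2 * m - 1) ≠ 0
  hb : ∀ r : R, ∃ c : Fin (2 * m) → F, r = ∑ i, c i • N ^ (i : ℕ)
  hσσ : ∀ x, σ (σ x) = x
  hσN : (1 + N) * (1 + σ N) = 1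

namespace Setting

variable {σ} (H : Setting N m σ)
include H

theorem nontriv : Nontrivial R := by
  by_contra h
  rw [not_nontrivial_iff_subsingleton] at h
  exact H.hN' (Subsingleton.elim _ _)

theorem nilN : IsNilpotent N := ⟨_, H.hN⟩

theorem nil_σ {x : R} (h : IsNilpotent x) : IsNilpotent (σ x) := h.map σ

theorem nilσN : IsNilpotent (σ N) := H.nil_σ H.nilN

theorem unit_alg {c : F} (hc : c ≠ 0) : IsUnit (algebraMap F R c) :=
  (IsUnit.mk0 c hc).map (algebraMap F R)

theorem alg_nil {c : F} (h : IsNilpotent (algebraMap F R c)) : c = 0 := by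
  by_contra hc
  have := H.nontriv
  exact (H.unit_alg hc).not_isNilpotent h

/-- Decomposition into scalar and nilpotent. -/
theorem decomp (r : R) : ∃ c : F, IsNilpotent (r - algebraMap F R c) := by
  obtain ⟨c, rfl⟩ := H.hb r
  have h0 : 0 < 2 * m := by have := H.hm; omega
  refine ⟨c ⟨0, h0⟩, ?_⟩
  have e : ∑ i, c i • N ^ (i : ℕ) - algebraMap F R (c ⟨0, h0⟩)
      = ∑ i, (if i = ⟨0, h0⟩ then 0 else c i • N ^ (i : ℕ)) := by
    have e2 : ∑ i, c i • N ^ (i : ℕ) = ∑ i, ((if i = ⟨0, h0⟩ then 0 else c i • N ^ (i : ℕ)) + (if i = ⟨0, h0⟩ then algebraMap F R (c ⟨0, h0⟩) else 0)) := by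
      refine Finset.sum_congr rfl fun i _ => ?_
      by_cases hi : i = ⟨0, h0⟩
      · subst hi
        simp [Algebra.algebraMap_eq_smul_one]
      · simp [hi]
    rw [e2, Finset.sum_add_distrib]
    simp
  rw [e]
  have : ∀ i ∈ (Finset.univ : Finset (Fin (2 * m))), (if i = ⟨0, h0⟩ then 0 else c i • N ^ (i : ℕ)) ∈ nilradical R := by
    intro i _
    by_cases hi : i = ⟨0, h0⟩
    · simp [hi]
    · rw [if_neg hi]
      have hi0 : (i : ℕ) ≠ 0 := fun h => hi (Fin.ext h)
      rw [mem_nilradical]
      have h1 : IsNilpotent (N ^ (i : ℕ)) := H.nilN.pow_of_pos hi0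
      obtain ⟨k, hk⟩ := h1
      exact ⟨k, by rw [smul_pow, hk, smul_zero]⟩
  exact mem_nilradical.mp (Ideal.sum_mem _ this)

/-- The anti-invariant generator. -/
def y (N : R) (σ : R →ₐ[F] R) : R := N - σ N

theorem y_eq : y N σ = N * (algebraMap F R 2 + σ N) := by
  have h := H.hσN
  unfold y
  rw [map_ofNat]
  linear_combination (-1 : R) * h

theorem σ_y : σ (y N σ) = -y N σ := by
  unfold y
  rw [map_sub, H.hσσ]
  ring

theorem unit_w : IsUnit (algebraMap F R 2 + σ N) :=
  IsNilpotent.isUnit_add_left_of_commute H.nilσN (H.unit_alg H.h2) (Commute.all _ _)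

theorem y_pow (k : ℕ) : y N σ ^ k = N ^ k * (algebraMap F R 2 + σ N) ^ k := by
  rw [H.y_eq, mul_pow]

theorem y_top : y N σ ^ (2 * m) = 0 := by
  rw [H.y_pow, H.hN, zero_mul]

theorem y_top' : y N σ ^ (2 * m - 1) ≠ 0 := by
  rw [H.y_pow]
  intro h
  exact H.hN' ((H.unit_w.pow _).mul_left_eq_zero.mp h)

theorem y_li : LinearIndependent F (fun i : Fin (2 * m) => y N σ ^ (i : ℕ)) :=
  powers_li H.y_top H.y_top'

theorem span_N : Submodule.span F (Set.range (fun i : Fin (2 * m) => N ^ (i : ℕ))) = ⊤ := by
  rw [eq_top_iff]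
  intro r _
  obtain ⟨c, rfl⟩ := H.hb r
  exact Submodule.sum_mem _ fun i _ => Submodule.smul_mem _ _ (Submodule.subset_span ⟨i, rfl⟩)

theorem span_y : Submodule.span F (Set.range (fun i : Fin (2 * m) => y N σ ^ (i : ℕ))) = ⊤ := by
  classical
  have hfin : Module.Finite F R := ⟨⟨Finset.univ.image (fun i : Fin (2 * m) => N ^ (i : ℕ)), by
    rw [Finset.coe_image, Finset.coe_univ, Set.image_univ]; exact H.span_N⟩⟩
  have h1 : Module.finrank F R ≤ 2 * m := by
    have : Module.finrank F (Submodule.span F (Set.range (fun i : Fin (2 * m) => N ^ (i : ℕ)))) ≤ _ :=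
      finrank_range_le_card (R := F) (fun i : Fin (2 * m) => N ^ (i : ℕ))
    rw [H.span_N, finrank_top] at this
    simpa using this
  have h2 := H.y_li.fintype_card_le_finrank
  simp only [Fintype.card_fin] at h2
  exact H.y_li.span_eq_top_of_card_eq_finrank' (by simp; omega)

theorem exp_y (r : R) : ∃ c : Fin (2 * m) → F, r = ∑ i, c i • y N σ ^ (i : ℕ) := by
  have h : r ∈ Submodule.span F (Set.range (fun i : Fin (2 * m) => y N σ ^ (i : ℕ))) := by
    rw [H.span_y]; trivial
  obtain ⟨c, hc⟩ := (Submodule.mem_span_range_iff_exists_fun F).mp h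
  exact ⟨c, hc.symm⟩

/-- The anti-invariant elements. -/
abbrev AM (R : Type*) [CommRing R] [Algebra F R] (σ : R →ₐ[F] R) := {b : R // σ b = -b}

/-- The anti-invariant elements are parametrised by the odd coordinates. -/
theorem card_AM [Fintype F] : Nat.card {b : R // σ b = -b} = Fintype.card F ^ m := by
  let v : Fin m → Fin (2 * m) := fun i => ⟨2 * i + 1, by have := i.2; omega⟩
  have hv : Function.Injective v := by
    intro a b h
    have := congrArg Fin.val h
    simp only [v] at this
    exact Fin.ext (by omega)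
  have hli : LinearIndependent F (fun i : Fin m => y N σ ^ (2 * (i : ℕ) + 1)) :=
    H.y_li.comp v hv
  have hσpow : ∀ i : ℕ, σ (y N σ ^ (2 * i + 1)) = -y N σ ^ (2 * i + 1) := by
    intro i
    rw [map_pow, H.σ_y, Odd.neg_pow ⟨i, rfl⟩]
  let Ψ : (Fin m → F) → {b : R // σ b = -b} := fun c =>
    ⟨∑ i, c i • y N σ ^ (2 * (i : ℕ) + 1), by
      rw [map_sum, ← Finset.sum_neg_distrib]
      refine Finset.sum_congr rfl fun i _ => ?_
      rw [map_smul, hσpow, smul_neg]⟩
  have hinj : Function.Injective Ψ := by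
    intro c c' h
    have h1 := congrArg Subtype.val h
    simp only [Ψ] at h1
    have h2 : ∑ i, (c i - c' i) • y N σ ^ (2 * (i : ℕ) + 1) = 0 := by
      simp only [sub_smul, Finset.sum_sub_distrib]
      rw [h1, sub_self]
    have h3 := Fintype.linearIndependent_iff.mp hli _ h2
    funext i
    exact sub_eq_zero.mp (h3 i)
  have hsurj : Function.Surjective Ψ := by
    rintro ⟨b, hb⟩
    obtain ⟨a, rfl⟩ := H.exp_y b
    -- coefficients
    have h3 : ∀ i : Fin (2 * m), σ (a i • y N σ ^ (i : ℕ)) = ((-1 : F) ^ (i : ℕ) * a i) • y N σ ^ (i : ℕ) := by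
      intro i
      rw [map_smul, map_pow, H.σ_y, neg_pow]
      rcases Nat.even_or_odd (i : ℕ) with h | h
      · simp [Even.neg_one_pow h]
      · simp [Odd.neg_one_pow h]
    have h1 : ∑ i : Fin (2 * m), ((-1 : F) ^ (i : ℕ) * a i + a i) • y N σ ^ (i : ℕ) = 0 := by
      have h2 := hb
      rw [map_sum] at h2
      simp only [h3] at h2
      simp only [add_smul, Finset.sum_add_distrib]
      rw [h2, neg_add_cancel]
    have h4 := Fintype.linearIndependent_iff.mp H.y_li _ h1
    have h5 : ∀ k (hk : k < 2 * m), Even k → a ⟨k, hk⟩ = 0 := by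
      intro k hk hev
      have h6 := h4 ⟨k, hk⟩
      simp only [Even.neg_one_pow hev, one_mul] at h6
      have h7 : (2 : F) * a ⟨k, hk⟩ = 0 := by rw [two_mul]; exact h6
      exact (mul_eq_zero.mp h7).resolve_left H.h2
    refine ⟨fun i => a (v i), Subtype.ext ?_⟩
    simp only [Ψ]
    let f : ℕ → R := fun k => if h : k < 2 * m then a ⟨k, h⟩ • y N σ ^ k else 0
    have e1 : ∑ i : Fin (2 * m), a i • y N σ ^ (i : ℕ) = ∑ i : Fin (2 * m), f i := by
      refine Finset.sum_congr rfl fun i _ => ?_
      simp [f]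
    have e2 : ∑ i : Fin m, a (v i) • y N σ ^ (2 * (i : ℕ) + 1) = ∑ i : Fin m, f (2 * i + 1) := by
      refine Finset.sum_congr rfl fun i _ => ?_
      have : 2 * (i : ℕ) + 1 < 2 * m := (v i).2
      simp only [f, dif_pos this, v]
    rw [e1, e2, Fin.sum_univ_eq_sum_range f, sum_range_two_mul, Fin.sum_univ_eq_sum_range (fun i => f (2 * i + 1))]
    refine Finset.sum_congr rfl fun i hi => ?_
    have hi' : 2 * i < 2 * m := by have := Finset.mem_range.mp hi; omega
    have : f (2 * i) = 0 := by
      simp only [f, dif_pos hi']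
      rw [h5 _ hi' ⟨i, by ring⟩, zero_smul]
    rw [this, zero_add]
  rw [← Nat.card_congr (Equiv.ofBijective Ψ ⟨hinj, hsurj⟩)]
  simp

/-- The Cayley transform. -/
theorem card_C1 [Fintype F] : Nat.card {g : R // g * σ g = 1 ∧ IsNilpotent (g - 1)} = Nat.card {b : R // σ b = -b} := by
  have hsplit : ∀ b : R, σ b = -b → IsNilpotent b := by
    intro b hb
    obtain ⟨c, hc⟩ := H.decomp b
    have h1 : IsNilpotent (σ (b - algebraMap F R c)) := H.nil_σ hc
    rw [map_sub, hb, AlgHom.commutes] at h1
    have h2 := (Commute.all _ _).isNilpotent_add hc h1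
    have e : b - algebraMap F R c + (-b - algebraMap F R c) = algebraMap F R (-(2 * c)) := by
      rw [map_neg, map_mul, map_ofNat]; ring
    rw [e] at h2
    have h3 := H.alg_nil h2
    have h4 : c = 0 := by
      have : (2 : F) * c = 0 := by linear_combination -h3
      exact (mul_eq_zero.mp this).resolve_left H.h2
    rw [h4, map_zero, sub_zero] at hc
    exact hc
  have hu2 : IsUnit (algebraMap F R 2) := H.unit_alg H.h2
  -- units
  have hu1 : ∀ g : R, IsNilpotent (g - 1) → IsUnit (g + 1) := by
    intro g hg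
    have : g + 1 = algebraMap F R 2 + (g - 1) := by rw [map_ofNat]; ring
    rw [this]
    exact IsNilpotent.isUnit_add_left_of_commute hg hu2 (Commute.all _ _)
  have hu3 : ∀ b : R, IsNilpotent b → IsUnit (1 - b) := by
    intro b hb
    exact IsNilpotent.isUnit_one_sub hb
  have hu4 : ∀ b : R, IsNilpotent b → IsUnit (1 + b) := by
    intro b hb
    exact IsNilpotent.isUnit_one_add hb
  refine Nat.card_congr ⟨?_, ?_, ?_, ?_⟩
  · -- `g ↦ (g - 1)(g + 1)⁻¹`
    rintro ⟨g, hg, hn⟩
    refine ⟨(g - 1) * Ring.inverse (g + 1), ?_⟩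
    have hv := Ring.mul_inverse_cancel _ (hu1 g hn)
    set v := Ring.inverse (g + 1) with hvdef
    have hσv : (σ g + 1) * σ v = 1 := by
      have := congrArg σ hv
      rwa [map_mul, map_add, map_one] at this
    rw [map_mul, map_sub, map_one]
    have hunit : IsUnit ((σ g + 1) * (g + 1)) := by
      have h1 : IsUnit (σ g + 1) := isUnit_iff_exists_inv.mpr ⟨_, hσv⟩
      exact h1.mul (hu1 g hn)
    apply hunit.mul_left_cancel
    calc (σ g + 1) * (g + 1) * ((σ g - 1) * σ v)
        = ((σ g + 1) * σ v) * ((σ g - 1) * (g + 1)) := by ring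
      _ = (σ g - 1) * (g + 1) := by rw [hσv, one_mul]
      _ = σ g - g + (g * σ g - 1) := by ring
      _ = σ g - g := by rw [hg]; ring
      _ = -(g * σ g + g - σ g - 1) := by rw [hg]; ring
      _ = -((g - 1) * (σ g + 1)) := by ring
      _ = -((g - 1) * (σ g + 1)) * ((g + 1) * v) := by rw [hv, mul_one]
      _ = _ := by ring
  · -- `b ↦ (1 + b)(1 - b)⁻¹`
    rintro ⟨b, hb⟩
    have hn := hsplit b hb
    refine ⟨(1 + b) * Ring.inverse (1 - b), ?_, ?_⟩
    · have hv := Ring.mul_inverse_cancel _ (hu3 b hn)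
      set v := Ring.inverse (1 - b) with hvdef
      have hσv : (1 + b) * σ v = 1 := by
        have := congrArg σ hv
        rw [map_mul, map_sub, map_one, hb] at this
        have e : (1 + b) = 1 - -b := by ring
        rw [e]; exact this
      rw [map_mul, map_add, map_one, hb]
      calc (1 + b) * v * ((1 + -b) * σ v) = ((1 + b) * σ v) * ((1 - b) * v) := by ring
        _ = 1 := by rw [hσv, hv, one_mul]
    · have hv := Ring.mul_inverse_cancel _ (hu3 b hn)
      set v := Ring.inverse (1 - b) with hvdef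
      have e : (1 + b) * v - 1 = algebraMap F R 2 * (b * v) := by
        rw [map_ofNat]
        linear_combination hv
      rw [e]
      exact (Commute.all _ _).isNilpotent_mul_left ((Commute.all _ _).isNilpotent_mul_right hn)
  · -- left inverse
    rintro ⟨g, hg, hn⟩
    apply Subtype.ext
    have hv := Ring.mul_inverse_cancel _ (hu1 g hn)
    set v := Ring.inverse (g + 1) with hvdef
    simp only
    have hb : IsNilpotent ((g - 1) * v) := (Commute.all _ _).isNilpotent_mul_right hn
    have hunit := hu3 _ hb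
    symm
    rw [Ring.eq_mul_inverse_iff_mul_eq _ _ _ hunit]
    linear_combination ((1 : R) - g) * hv
  · -- right inverse
    rintro ⟨b, hb⟩
    apply Subtype.ext
    have hn := hsplit b hb
    have hv := Ring.mul_inverse_cancel _ (hu3 b hn)
    set v := Ring.inverse (1 - b) with hvdef
    simp only
    have hnil : IsNilpotent ((1 + b) * v - 1) := by
      have e : (1 + b) * v - 1 = algebraMap F R 2 * (b * v) := by
        rw [map_ofNat]
        linear_combination hv
      rw [e]
      exact (Commute.all _ _).isNilpotent_mul_left ((Commute.all _ _).isNilpotent_mul_right hn)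
    have hunit := hu1 _ hnil
    symm
    rw [Ring.eq_mul_inverse_iff_mul_eq _ _ _ hunit]
    linear_combination (-((1 : R) + b)) * hv

/-- The norm-one group has twice the order of its `1`-part. -/
theorem card_C [Fintype F] : Nat.card {g : R // g * σ g = 1} = 2 * Nat.card {g : R // g * σ g = 1 ∧ IsNilpotent (g - 1)} := by
  classical
  have hdich : ∀ g : R, g * σ g = 1 → IsNilpotent (g - 1) ∨ IsNilpotent (-g - 1) := by
    intro g hg
    obtain ⟨c, hc⟩ := H.decomp g
    have h1 : IsNilpotent (σ g - algebraMap F R c) := by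
      have := H.nil_σ hc
      rwa [map_sub, AlgHom.commutes] at this
    have e : 1 - algebraMap F R (c ^ 2) = (g - algebraMap F R c) * σ g + algebraMap F R c * (σ g - algebraMap F R c) := by
      rw [map_pow]
      linear_combination -hg
    have h2 : IsNilpotent (1 - algebraMap F R (c ^ 2)) := by
      rw [e]
      exact (Commute.all _ _).isNilpotent_add ((Commute.all _ _).isNilpotent_mul_right hc) ((Commute.all _ _).isNilpotent_mul_left h1)
    have h3 : IsNilpotent (algebraMap F R (1 - c ^ 2)) := by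
      rwa [map_sub, map_one]
    have h4 := H.alg_nil h3
    have h5 : (c - 1) * (c + 1) = 0 := by linear_combination -h4
    rcases mul_eq_zero.mp h5 with h6 | h6
    · left
      have : c = 1 := by linear_combination h6
      rwa [this, map_one] at hc
    · right
      have : c = -1 := by linear_combination h6
      rw [this, map_neg, map_one] at hc
      have e2 : -g - 1 = -(g - -1) := by ring
      rw [e2]
      exact hc.neg
  have hnot : ∀ g : R, IsNilpotent (g - 1) → ¬ IsNilpotent (-g - 1) := by
    intro g h1 h2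
    have h3 := (Commute.all _ _).isNilpotent_add h1 h2
    have e : g - 1 + (-g - 1) = algebraMap F R (-2) := by
      rw [map_neg, map_ofNat]; ring
    rw [e] at h3
    have := H.alg_nil h3
    exact H.h2 (by linear_combination -this)
  have hneg : ∀ g : R, g * σ g = 1 → -g * σ (-g) = 1 := by
    intro g hg
    rw [map_neg, neg_mul_neg, hg]
  have hneg2 : ∀ g : R, - (-g) - 1 = g - 1 := by
    intro g; ring
  let T := {g : R // g * σ g = 1 ∧ IsNilpotent (g - 1)}
  let e : {g : R // g * σ g = 1} ≃ T ⊕ T :=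
    { toFun := fun g => if h : IsNilpotent (g.1 - 1) then Sum.inl ⟨g.1, g.2, h⟩ else
        Sum.inr ⟨-g.1, hneg _ g.2, (hdich _ g.2).resolve_left h⟩
      invFun := fun x => match x with
        | Sum.inl g => ⟨g.1, g.2.1⟩
        | Sum.inr g => ⟨-g.1, hneg _ g.2.1⟩
      left_inv := by
        rintro ⟨g, hg⟩
        by_cases h : IsNilpotent (g - 1)
        · simp [h]
        · simp [h]
      right_inv := by
        rintro (⟨g, hg, hn⟩ | ⟨g, hg, hn⟩)
        · simp [hn]
        · have h := hnot g hn
          simp [h] }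
  have hfin : Finite R := Finite.of_surjective (fun c : Fin (2 * m) → F => ∑ i, c i • N ^ (i : ℕ)) (by
    intro r
    obtain ⟨c, hc⟩ := H.hb r
    exact ⟨c, hc.symm⟩)
  have hT : Finite T := Subtype.finite
  rw [Nat.card_congr e, Nat.card_sum, two_mul]

theorem card_main [Fintype F] : Nat.card {g : R // g * σ g = 1} = 2 * Fintype.card F ^ m := by
  rw [H.card_C, H.card_C1, H.card_AM]

end Setting

end Abstract

end Cfsg.Agent.Lib.Misc19.RegUnipSp
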