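import Mathlib

set_option autoImplicit false

namespace Cfsg.Agent.Lib.Misc19.SymSylow

open Equiv

theorem zmod2_cases : ∀ i : ZMod 2, i = 0 ∨ i = 1 := by decide

theorem zmod2_add : (1 : ZMod 2) + 1 = 0 := by decide

/-- A group generated by elements whose `p`-th power is trivial. -/
def GenP (p : ℕ) (X : Type*) [Group X] : Prop := Subgroup.closure {y : X | y ^ p = 1} = ⊤

section gen

variable {p : ℕ} {X Y : Type*} [Group X] [Group Y]

theorem GenP.pow_mem (h : GenP p X) (x : X) : x ^ p ∈ commutator X := by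
  have hx : x ∈ Subgroup.closure {y : X | y ^ p = 1} := by rw [h]; trivial
  have key : ∀ z : X, Abelianization.of (z ^ p) = 1 ↔ z ^ p ∈ commutator X := by
    intro z
    exact QuotientGroup.eq_one_iff _
  induction hx using Subgroup.closure_induction with
  | mem y hy =>
    have : y ^ p = 1 := hy
    rw [this]
    exact one_mem _
  | one => rw [one_pow]; exact one_mem _
  | mul a b _ _ ha hb =>
    rw [← key] at ha hb ⊢
    rw [map_pow, map_mul, mul_pow, ← map_pow, ← map_pow, ha, hb, one_mul]
  | inv a _ ha =>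
    rw [inv_pow]
    exact inv_mem ha

theorem GenP.range_le (h : GenP p X) (f : X →* Y) : f.range ≤ Subgroup.closure {y : Y | y ^ p = 1} := by
  rw [MonoidHom.range_eq_map, ← h, MonoidHom.map_closure]
  apply Subgroup.closure_mono
  rintro _ ⟨y, hy, rfl⟩
  change f y ^ p = 1
  rw [← map_pow, show y ^ p = 1 from hy, map_one]

theorem GenP.of_surjective (h : GenP p X) (f : X →* Y) (hf : Function.Surjective f) : GenP p Y := by
  unfold GenP
  rw [eq_top_iff]
  intro y _
  obtain ⟨x, rfl⟩ := hf y
  exact h.range_le f ⟨x, rfl⟩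

theorem GenP.of_equiv (h : GenP p X) (e : X ≃* Y) : GenP p Y :=
  h.of_surjective e.toMonoidHom e.surjective

theorem GenP.of_subsingleton [Subsingleton X] : GenP p X := by
  unfold GenP
  rw [eq_top_iff]
  intro x _
  rw [Subsingleton.elim x 1]
  exact one_mem _

end gen

section wreath

variable (p : ℕ) [hp : Fact p.Prime] {β : Type*}

/-- the affine permutation `(i, b) ↦ (i + f b, τ b)` -/
def aff (τ : Perm β) (f : β → ZMod p) : Perm (ZMod p × β) where
  toFun x := (x.1 + f x.2, τ x.2)
  invFun x := (x.1 - f (τ⁻¹ x.2), τ⁻¹ x.2)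
  left_inv x := by
    ext <;> simp
  right_inv x := by
    ext <;> simp

variable {p}

@[simp] theorem aff_apply (τ : Perm β) (f : β → ZMod p) (x : ZMod p × β) :
    aff p τ f x = (x.1 + f x.2, τ x.2) := rfl

theorem aff_mul (τ τ' : Perm β) (f f' : β → ZMod p) :
    aff p τ f * aff p τ' f' = aff p (τ * τ') (fun b => f' b + f (τ' b)) := by
  ext x <;> simp [add_assoc]

theorem aff_one : aff p (1 : Perm β) (0 : β → ZMod p) = 1 := by
  ext x <;> simp

theorem aff_inv (τ : Perm β) (f : β → ZMod p) : (aff p τ f)⁻¹ = aff p τ⁻¹ (fun b => - f (τ⁻¹ b)) := by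
  rw [inv_eq_iff_mul_eq_one, aff_mul]
  convert aff_one using 2
  · simp
  · ext b; simp

theorem aff_injective {τ τ' : Perm β} {f f' : β → ZMod p} (h : aff p τ f = aff p τ' f') : τ = τ' ∧ f = f' := by
  constructor
  · ext b
    have := DFunLike.congr_fun h (0, b)
    simp only [aff_apply, Prod.mk.injEq] at this
    rw [this.2]
  · ext b
    have := DFunLike.congr_fun h (0, b)
    simp only [aff_apply, Prod.mk.injEq] at this
    simpa using this.1

/-- The wreath product of `R` with `ℤ/p`. -/
def wr (p : ℕ) [Fact p.Prime] (R : Subgroup (Perm β)) : Subgroup (Perm (ZMod p × β)) where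
  carrier := {g | ∃ τ ∈ R, ∃ f, g = aff p τ f}
  mul_mem' := by
    rintro _ _ ⟨τ, hτ, f, rfl⟩ ⟨τ', hτ', f', rfl⟩
    exact ⟨τ * τ', R.mul_mem hτ hτ', _, aff_mul _ _ _ _⟩
  one_mem' := ⟨1, R.one_mem, 0, aff_one.symm⟩
  inv_mem' := by
    rintro _ ⟨τ, hτ, f, rfl⟩
    exact ⟨τ⁻¹, R.inv_mem hτ, _, aff_inv _ _⟩

theorem card_wr [Fintype β] (R : Subgroup (Perm β)) :
    Nat.card (wr p R) = Nat.card R * p ^ Fintype.card β := by
  have hbij : Function.Bijective (fun x : R × (β → ZMod p) =>
      (⟨aff p x.1 x.2, x.1, x.1.2, x.2, rfl⟩ : wr p R)) := by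
    constructor
    · rintro ⟨τ, f⟩ ⟨τ', f'⟩ h
      have h1 := aff_injective (congrArg Subtype.val h)
      exact Prod.ext (Subtype.ext h1.1) h1.2
    · rintro ⟨_, τ, hτ, f, rfl⟩
      exact ⟨(⟨τ, hτ⟩, f), rfl⟩
  rw [← Nat.card_congr (Equiv.ofBijective _ hbij), Nat.card_prod, Nat.card_fun, Nat.card_zmod,
    Nat.card_eq_fintype_card (α := β)]

/-- the top group, as a homomorphism -/
def affTop (p : ℕ) [Fact p.Prime] : Perm β →* Perm (ZMod p × β) where
  toFun τ := aff p τ 0
  map_one' := aff_one
  map_mul' τ τ' := by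
    rw [aff_mul]
    congr 1
    ext b; simp

theorem aff_decomp (τ : Perm β) (f : β → ZMod p) :
    aff p τ f = aff p 1 (fun b => f (τ⁻¹ b)) * affTop p τ := by
  change _ = aff p 1 _ * aff p τ 0
  rw [aff_mul]
  congr 1
  ext b; simp

theorem aff_base_pow (g : β → ZMod p) (k : ℕ) : aff p (1 : Perm β) g ^ k = aff p 1 (k • g) := by
  induction k with
  | zero => simpa using aff_one.symm
  | succ k ih =>
    rw [pow_succ, ih, aff_mul]
    congr 1
    ext b
    simp [add_mul, add_comm]

theorem aff_base_pow_p (g : β → ZMod p) : aff p (1 : Perm β) g ^ p = 1 := by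
  rw [aff_base_pow]
  convert aff_one using 2
  ext b
  simp

theorem genP_wr {R : Subgroup (Perm β)} (hR : GenP p R) : GenP p (wr p R) := by
  let ι : R →* wr p R :=
    { toFun := fun τ => ⟨affTop p τ, τ, τ.2, 0, rfl⟩
      map_one' := Subtype.ext (map_one _)
      map_mul' := fun a b => Subtype.ext (map_mul _ _ _) }
  unfold GenP
  rw [eq_top_iff]
  rintro ⟨_, τ, hτ, f, rfl⟩ _
  have e : (⟨aff p τ f, τ, hτ, f, rfl⟩ : wr p R)
      = ⟨aff p 1 (fun b => f (τ⁻¹ b)), 1, R.one_mem, _, rfl⟩ * ι ⟨τ, hτ⟩ :=
    Subtype.ext (aff_decomp τ f)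
  rw [e]
  refine Subgroup.mul_mem _ (Subgroup.subset_closure ?_) (hR.range_le ι ⟨_, rfl⟩)
  exact Subtype.ext (by
    change (aff p 1 _) ^ p = 1
    exact aff_base_pow_p _)

end wreath

section exist

variable (p : ℕ) [hp : Fact p.Prime]

open Nat in
/-- Existence of a subgroup of `S_n` of full `p`-power order, generated by elements of order `p`. -/
theorem exists_genP_sym (n : ℕ) : ∃ R : Subgroup (Perm (Fin n)),
    Nat.card R = p ^ padicValNat p n ! ∧ GenP p R := by
  induction n using Nat.strong_induction_on with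
  | _ n ih =>
    rcases Nat.eq_zero_or_pos n with rfl | hn
    · refine ⟨⊥, by simp, ?_⟩
      have : Subsingleton (⊥ : Subgroup (Perm (Fin 0))) := inferInstance
      exact GenP.of_subsingleton
    · have hm : n / p < n := Nat.div_lt_self hn hp.out.one_lt
      obtain ⟨R, hR, hG⟩ := ih (n / p) hm
      have hle : Fintype.card (ZMod p × Fin (n / p)) ≤ Fintype.card (Fin n) := by
        simp only [Fintype.card_prod, ZMod.card, Fintype.card_fin]
        exact Nat.mul_div_le n p
      obtain ⟨e⟩ := Function.Embedding.nonempty_of_card_le hle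
      let ψ := Perm.viaEmbeddingHom e
      have hψ : Function.Injective ψ := Perm.viaEmbeddingHom_injective e
      refine ⟨(wr p R).map ψ, ?_, ?_⟩
      · rw [Subgroup.card_map_of_injective hψ, card_wr, hR, Fintype.card_fin, ← pow_add,
          ← padicValNat_mul_div_factorial n, padicValNat_factorial_mul]
      · exact (genP_wr hG).of_equiv (Subgroup.equivMapOfInjective _ ψ hψ)

theorem sign_viaEmbedding {α β : Type*} [Fintype α] [Fintype β] [DecidableEq α] [DecidableEq β]
    (e : α ↪ β) (g : Perm α) : Perm.sign (Perm.viaEmbeddingHom e g) = Perm.sign g := by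
  classical
  rw [Perm.viaEmbeddingHom_apply]
  unfold Perm.viaEmbedding
  convert Perm.sign_extendDomain g (Equiv.ofInjective e.1 e.2)

theorem sign_affTop_two {β : Type*} [Fintype β] [DecidableEq β] (τ : Perm β) :
    Perm.sign (affTop 2 τ) = 1 := by
  have h : (affTop 2 τ : Perm (ZMod 2 × β)) = Equiv.prodCongrRight (fun _ => τ) := by
    ext x <;> simp [affTop]
  rw [h, Perm.sign_prodCongrRight]
  simp only [Finset.prod_const, Finset.card_univ, ZMod.card]
  exact Int.units_sq _

open Nat in
/-- Existence of a subgroup of `A_n` of full `p`-power order, generated by elements of order `p`. -/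
theorem exists_genP_alt (n : ℕ) : ∃ R : Subgroup (alternatingGroup (Fin n)),
    Nat.card R = p ^ (Nat.card (alternatingGroup (Fin n))).factorization p ∧ GenP p R := by
  rcases Nat.lt_or_ge n 2 with hn | hn
  · have h1 : Subsingleton (Fin n) := by
      interval_cases n <;> infer_instance
    have h2 : Subsingleton (Perm (Fin n)) := ⟨fun a b => Equiv.ext fun x => Subsingleton.elim _ _⟩
    have h3 : Nat.card (alternatingGroup (Fin n)) = 1 := Nat.card_unique
    refine ⟨⊥, ?_, GenP.of_subsingleton⟩
    rw [h3]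
    simp
  have hnt : Nontrivial (Fin n) := Fin.nontrivial_iff_two_le.mpr hn
  have hcardA := two_mul_nat_card_alternatingGroup (α := Fin n)
  rw [Nat.card_perm, Nat.card_eq_fintype_card (α := Fin n), Fintype.card_fin] at hcardA
  have hA0 : Nat.card (alternatingGroup (Fin n)) ≠ 0 := Nat.card_pos.ne'
  have hfac : (n !).factorization p = (2 : ℕ).factorization p + (Nat.card (alternatingGroup (Fin n))).factorization p := by
    rw [← hcardA, Nat.factorization_mul (by norm_num) hA0]
    rfl
  rw [Nat.factorization_def _ hp.out] at hfac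
  by_cases hp2 : p = 2
  · subst hp2
    have h21 : (2 : ℕ).factorization 2 = 1 := Nat.Prime.factorization_self Nat.prime_two
    rw [h21] at hfac
    -- the wreath product for `n / 2`
    have hm : n / 2 < n := Nat.div_lt_self (by omega) (by norm_num)
    have hm1 : 1 ≤ n / 2 := by omega
    obtain ⟨R, hR, hG⟩ := exists_genP_sym 2 (n / 2)
    have hle : Fintype.card (ZMod 2 × Fin (n / 2)) ≤ Fintype.card (Fin n) := by
      simp only [Fintype.card_prod, ZMod.card, Fintype.card_fin]
      exact Nat.mul_div_le n 2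
    obtain ⟨e⟩ := Function.Embedding.nonempty_of_card_le hle
    let ψ := Perm.viaEmbeddingHom e
    have hψ : Function.Injective ψ := Perm.viaEmbeddingHom_injective e
    let W := wr 2 R
    let W₀ : Subgroup (Perm (ZMod 2 × Fin (n / 2))) := W ⊓ (Perm.sign).ker
    -- generated by involutions
    have hG₀ : GenP 2 W₀ := by
      let ι : R →* W₀ :=
        { toFun := fun τ => ⟨affTop 2 τ, ⟨τ, τ.2, 0, rfl⟩, sign_affTop_two _⟩
          map_one' := Subtype.ext (map_one _)
          map_mul' := fun a b => Subtype.ext (map_mul _ _ _) }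
      unfold GenP
      rw [eq_top_iff]
      rintro ⟨g, ⟨τ, hτ, f, rfl⟩, hs⟩ _
      have hdec := aff_decomp τ f
      have hs' : Perm.sign (aff 2 1 (fun b => f (τ⁻¹ b))) = 1 := by
        have h5 : Perm.sign (aff 2 τ f) = 1 := hs
        rw [hdec, map_mul, sign_affTop_two, mul_one] at h5
        exact h5
      have hmem : aff 2 (1 : Perm (Fin (n / 2))) (fun b => f (τ⁻¹ b)) ∈ W₀ :=
        ⟨⟨1, R.one_mem, _, rfl⟩, hs'⟩
      have e' : (⟨aff 2 τ f, ⟨τ, hτ, f, rfl⟩, hs⟩ : W₀) = ⟨_, hmem⟩ * ι ⟨τ, hτ⟩ :=
        Subtype.ext hdec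
      rw [e']
      refine Subgroup.mul_mem _ (Subgroup.subset_closure ?_) (hG.range_le ι ⟨_, rfl⟩)
      exact Subtype.ext (aff_base_pow_p _)
    -- order
    have hW₀ : 2 * Nat.card W₀ = Nat.card W := by
      let h : W →* ℤˣ := (Perm.sign).comp W.subtype
      have hsurj : Function.Surjective h := by
        intro u
        rcases Int.units_eq_one_or u with rfl | rfl
        · exact ⟨1, map_one _⟩
        · let b : Fin (n / 2) := ⟨0, by omega⟩
          have hsw : aff 2 (1 : Perm (Fin (n / 2))) (Pi.single b 1) = Equiv.swap ((0 : ZMod 2), b) ((1 : ZMod 2), b) := by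
            apply Equiv.ext
            rintro ⟨i, c⟩
            by_cases hc : c = b
            · subst hc
              have hi : i = 0 ∨ i = 1 := zmod2_cases i
              rcases hi with rfl | rfl
              · rw [Equiv.swap_apply_left]
                simp
              · rw [Equiv.swap_apply_right]
                simp [zmod2_add]
            · have h1 : (i, c) ≠ ((0 : ZMod 2), b) := fun e => hc (congrArg Prod.snd e)
              have h2 : (i, c) ≠ ((1 : ZMod 2), b) := fun e => hc (congrArg Prod.snd e)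
              rw [Equiv.swap_apply_of_ne_of_ne h1 h2]
              simp [hc]
          refine ⟨⟨_, ⟨1, R.one_mem, _, hsw.symm⟩⟩, ?_⟩
          change Perm.sign (Equiv.swap ((0 : ZMod 2), b) ((1 : ZMod 2), b)) = -1
          apply Perm.sign_swap
          intro e
          exact zero_ne_one (congrArg Prod.fst e)
      have hk : h.ker = W₀.subgroupOf W := by
        ext x
        constructor
        · intro hx
          exact ⟨x.2, hx⟩
        · intro hx
          exact hx.2
      have h1 : Nat.card h.ker = Nat.card W₀ := by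
        rw [hk]
        exact Nat.card_congr (Subgroup.subgroupOfEquivOfLe (inf_le_left : W₀ ≤ W)).toEquiv
      have h2 := Subgroup.card_mul_index h.ker
      have h3 : Nat.card h.range = 2 := by
        rw [MonoidHom.range_eq_top.mpr hsurj, Subgroup.card_top, Nat.card_eq_fintype_card, Fintype.card_units_int]
      rw [Subgroup.index_ker, h3, h1] at h2
      omega
    have hle₀ : W₀.map ψ ≤ alternatingGroup (Fin n) := by
      rintro _ ⟨g, hg, rfl⟩
      rw [Perm.mem_alternatingGroup]
      change Perm.sign (Perm.viaEmbeddingHom e g) = 1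
      rw [sign_viaEmbedding]
      exact hg.2
    refine ⟨(W₀.map ψ).subgroupOf (alternatingGroup (Fin n)), ?_, ?_⟩
    · rw [Nat.card_congr (Subgroup.subgroupOfEquivOfLe hle₀).toEquiv, Subgroup.card_map_of_injective hψ]
      have hWc : Nat.card W = 2 ^ padicValNat 2 n ! := by
        change Nat.card (wr 2 R) = _
        rw [card_wr, hR, Fintype.card_fin, ← pow_add, ← padicValNat_mul_div_factorial n, padicValNat_factorial_mul]
      rw [← hW₀] at hWc
      rw [hfac, add_comm, pow_add, pow_one] at hWc
      exact Nat.eq_of_mul_eq_mul_left (show 0 < 2 by norm_num) (hWc.trans (mul_comm _ _))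
    · exact (hG₀.of_equiv (Subgroup.equivMapOfInjective _ ψ hψ)).of_equiv (Subgroup.subgroupOfEquivOfLe hle₀).symm
  · -- p odd
    have h20 : (2 : ℕ).factorization p = 0 := by
      apply Nat.factorization_eq_zero_of_not_dvd
      intro hd
      exact hp2 ((Nat.prime_dvd_prime_iff_eq hp.out Nat.prime_two).1 hd)
    rw [h20, zero_add] at hfac
    obtain ⟨R, hR, hG⟩ := exists_genP_sym p n
    have hodd : Odd p := hp.out.odd_of_ne_two hp2
    have hle : R ≤ alternatingGroup (Fin n) := by
      let h : R →* ℤˣ := (Perm.sign).comp R.subtype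
      have hker : h.ker = ⊤ := by
        rw [eq_top_iff, ← hG, Subgroup.closure_le]
        intro y hy
        have hy' : y ^ p = 1 := hy
        have h3 : h y ^ p = 1 := by rw [← map_pow, hy', map_one]
        rcases Int.units_eq_one_or (h y) with h4 | h4
        · exact h4
        · rw [h4, hodd.neg_one_pow] at h3
          exact absurd h3 (by decide)
      intro x hx
      rw [Perm.mem_alternatingGroup]
      have : (⟨x, hx⟩ : R) ∈ h.ker := by rw [hker]; trivial
      exact this
    refine ⟨R.subgroupOf (alternatingGroup (Fin n)), ?_, ?_⟩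
    · rw [Nat.card_congr (Subgroup.subgroupOfEquivOfLe hle).toEquiv, hR, hfac]
    · exact hG.of_equiv (Subgroup.subgroupOfEquivOfLe hle).symm

end exist

open Nat in
theorem main_result (p : ℕ) [Fact p.Prime] (n : ℕ) (P : Sylow p (Equiv.Perm (Fin n))) (Q : Sylow p (alternatingGroup (Fin n))) :
    (∀ x : (P : Subgroup (Equiv.Perm (Fin n))), x ^ p ∈ commutator (P : Subgroup (Equiv.Perm (Fin n)))) ∧
    (∀ x : (Q : Subgroup (alternatingGroup (Fin n))), x ^ p ∈ commutator (Q : Subgroup (alternatingGroup (Fin n)))) := by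
  constructor
  · obtain ⟨R, hR, hG⟩ := exists_genP_sym p n
    have hc : Nat.card R = p ^ (Nat.card (Perm (Fin n))).factorization p := by
      rw [hR, Nat.card_perm, Nat.card_eq_fintype_card, Fintype.card_fin, Nat.factorization_def _ (Fact.out)]
    let P₀ := Sylow.ofCard R hc
    have h0 : GenP p (P₀ : Subgroup (Perm (Fin n))) := hG
    have := h0.of_equiv (Sylow.equiv P₀ P)
    exact fun x => this.pow_mem x
  · obtain ⟨R, hc, hG⟩ := exists_genP_alt p n
    let P₀ := Sylow.ofCard R hc
    have h0 : GenP p (P₀ : Subgroup (alternatingGroup (Fin n))) := hG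
    have := h0.of_equiv (Sylow.equiv P₀ Q)
    exact fun x => this.pow_mem x

end Cfsg.Agent.Lib.Misc19.SymSylow
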